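import Cfsg.Agent.H477.HC.Rk3Chars_m3
import Cfsg.Agent.H113.PSL.Facts
import Cfsg.Agent.H113.Two.SplitGen
import Cfsg.Agent.H477.HC.Levi
import Cfsg.Agent.H477.HC.Arith_m3
import Cfsg.Agent.ClassicalGeometry.GUBasic
import Cfsg.Agent.H113.PSU.Main
import Cfsg.Agent.FastGrp
import Cfsg.Agent.Prune
set_option linter.all false

section
prune_inst 0x7fffeff8bba8abffffff7e3fa6dccffc37808fffa6dffd4bffe0e1bf8bdf930209c56b858de010fe1ff7e21410b87853ffffceffe26bdc7ffffd57b45ffbee4fe5f7bd0851d68c340eac2fffe3f0570e6f3fdfffffffffffffffffffffffffbeffbfebfeffff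

-- part: H113/Two/HcOne
section
prune_inst 0x7404450000000018001030001c06f2000402000b000000c0020006c98c4229010621b0b00000001680d44030000002100000400800000084000001180080000052009208a115040000000a08000002000000000000000000000000000000010000000
set_option linter.all false
open scoped Cfsg.Agent.FastGrp

/-!
# Harish-Chandra induction from the stabiliser of a singular point (helper113)

`exists_hc_van` : helper749's `exists_hc_stab` with an arbitrary vanishing hypothesis for the orthogonal disjoint `W'`;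
`van_torus` : the vanishing hypothesis for `k = 1`, `θ ≠ 1`, `ψ` trivial;
`van_cusp` : the vanishing hypothesis for `k = 1`, `ψ = ψ₀ ∘ ρ`, `ψ₀` cuspidal;
`exists_one`, `exists_one_cusp` : the resulting irreducible characters.
-/

set_option autoImplicit false
set_option linter.unusedSectionVars false
set_option linter.style.haveILetI false

open scoped ComplexConjugate
open Cfsg

namespace Cfsg.Agent.H113.Two.HcOne

open Cfsg.Agent.OddOrderCharacters.Clifford Cfsg.Agent.Characters MulAction Module Cfsg.Agent.H53.HC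
open Cfsg.Agent.H477.HC Cfsg.Agent.H749.Two Cfsg.Agent.H113.PSL.Hyper Cfsg.Agent.H113.PSL.Para
open Cfsg.Agent.H113.PSL.Three (isIrr_linDet)

universe u v w

variable {K : Type u} [Field K] {V : Type v} [AddCommGroup V] [Module K V] {X : Type w} [AddCommGroup X] [Module K X]
variable {F : CForm K V} {F' : CForm K X} {j : X →ₗ[K] V} {W₀ : Submodule K V}

/-- **Harish-Chandra induction of `c ⊗ ψ₁`**, `ψ₁` an irreducible character of the stabiliser of `W₀` trivial on
`F.TT W₀`. -/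
theorem exists_hc_van [Finite K] [FiniteDimensional K V] [Finite V] {k : ℕ} {Z : Kˣ → Prop} {c : GL (Fin k) K → ℂ}
    (hc : Cus K k F.σ Z c) (hW₀ : W₀ ∈ F.Om k) {ψ₁ : stabW F.iso.subtype W₀ → ℂ} (hψ : IsIrrCharacter _ ψ₁)
    (hT : ∀ g : stabW F.iso.subtype W₀, (g : F.iso) ∈ F.TT W₀ → ψ₁ g = ψ₁ 1)
    (hW : ∀ W' ∈ F.Om k, W₀ ≤ F.perp W' → W₀ ⊓ W' = ⊥ → F.Van c (psf F W₀ ψ₁) W₀ W') :
    ∃ χ : F.iso → ℂ, IsIrrCharacter F.iso χ ∧ χ 1 = dg F k * ψ₁ 1 ∧
      ∀ (z : F.iso) (a : Kˣ), (∀ v, (z : V ≃ₗ[K] V) v = (a : K) • v) →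
        (∀ hs : z ∈ stabW F.iso.subtype W₀, c (Matrix.GeneralLinearGroup.scalar (Fin k) a) * ψ₁ ⟨z, hs⟩ = c 1 * ψ₁ 1) →
        χ z = χ 1 := by
  classical
  have := finite_Om F k
  have := finite_iso F
  let _ := Fintype.ofFinite (F.Om k)
  let _ := Fintype.ofFinite F.iso
  have hcl := Core.isIrr_isClassFunction hc.irr
  have hcl1 := Core.isIrr_isClassFunction hψ
  obtain ⟨W₁, hW₁, hopp⟩ := F.exists_opp hW₀
  have hψT : ∀ W ∈ F.Om k, ∀ g ∈ F.TT W, psf F W₀ ψ₁ g W = psf F W₀ ψ₁ 1 W := by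
    intro W hWk g hg
    obtain ⟨x, hx⟩ := F.trans_Om hW₀ hWk
    have h1 := TT_conj hx hg
    have h2 : x⁻¹ * 1 * x ∈ stabW F.iso.subtype W₀ := by
      rw [mul_one, inv_mul_cancel]; exact Subgroup.one_mem _
    rw [psf_eq hcl1 hx h1.1, psf_eq hcl1 hx h2, hT _ h1]
    congr 1
    apply Subtype.ext
    change 1 = x⁻¹ * 1 * x
    group
  have hirr : IsIrrCharacter (stabW F.iso.subtype W₀) (fun g => psf F W₀ ψ₁ g W₀) := by
    have : (fun g : stabW F.iso.subtype W₀ => psf F W₀ ψ₁ g W₀) = ψ₁ := by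
      funext g
      exact psf_self hcl1 g
    rw [this]; exact hψ
  have hval1 : ∀ W ∈ F.Om k, psf F W₀ ψ₁ 1 W = ψ₁ 1 := by
    intro W hWk
    obtain ⟨x, hx⟩ := F.trans_Om hW₀ hWk
    have h2 : x⁻¹ * 1 * x ∈ stabW F.iso.subtype W₀ := by
      rw [mul_one, inv_mul_cancel]; exact Subgroup.one_mem _
    rw [psf_eq hcl1 hx h2]
    congr 1
    apply Subtype.ext
    change x⁻¹ * 1 * x = 1
    group
  refine ⟨F.hc c (psf F W₀ ψ₁), F.isIrr_hc hc.irr hc.cusp hc.dual (psf_conj hcl1) hψT hW₀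
    (fun W hWk => F.trans_Om hW₀ hWk) (F.isIrr_stab hc.irr hψT hW₀ hW₁ hopp hirr)
    (fun W' hW' h1 h2 => hW W' hW' h1 h2), ?_, fun z a hz h => ?_⟩
  · rw [F.hc_one hcl _ hval1, hc.deg]
    unfold dg
    push_cast
    ring
  · unfold CForm.hc
    refine Finset.sum_congr rfl fun W _ => ?_
    have hfix : ∀ U : Submodule K V, U.map (F.iso.subtype z : V →ₗ[K] V) = U := fun U =>
      map_eq_of_le F.iso.subtype fun w hw => by
        change (z : V ≃ₗ[K] V) w ∈ U
        rw [hz]; exact U.smul_mem _ hw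
    have h' : W.1.map (F.iso.subtype 1 : V →ₗ[K] V) = W.1 := Submodule.map_id _
    rw [hval1 W.1 W.2, flagTerm_of F.iso.subtype c (hfix W.1), flagTerm_of F.iso.subtype c h',
      cl_eq hcl (finBasisOfFinrankEq K W.1 W.2.2)]
    have e2 : res (F.iso.subtype 1) W.1 h' = 1 := by
      ext w
      rfl
    rw [e2, cl_one hcl (finBasisOfFinrankEq K W.1 W.2.2), ← h (hfix W₀)]
    obtain ⟨x, hx⟩ := F.trans_Om hW₀ W.2
    have hzx : x⁻¹ * z * x = z := by
      apply Subtype.ext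
      ext v
      change ((x⁻¹ : F.iso) : V ≃ₗ[K] V) ((z : V ≃ₗ[K] V) ((x : V ≃ₗ[K] V) v)) = (z : V ≃ₗ[K] V) v
      rw [hz, hz, map_smul]
      congr 1
      exact (x : V ≃ₗ[K] V).symm_apply_apply v
    have hzs : x⁻¹ * z * x ∈ stabW F.iso.subtype W₀ := by rw [hzx]; exact hfix W₀
    rw [psf_eq hcl1 hx hzs]
    congr 2
    · ext i j
      rw [coe_glE, LinearMap.toMatrix_apply]
      have e2 : (res (F.iso.subtype z) W.1 (hfix W.1) : W.1 →ₗ[K] W.1) (finBasisOfFinrankEq K W.1 W.2.2 j) =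
          (a : K) • (finBasisOfFinrankEq K W.1 W.2.2 j) := Subtype.ext (hz _)
      rw [e2, map_smul, Finsupp.smul_apply, Basis.repr_self, smul_eq_mul, Matrix.GeneralLinearGroup.coe_scalar,
        Matrix.scalar_apply, Matrix.diagonal_apply, Finsupp.single_apply]
      by_cases hij : i = j
      · simp [hij]
      · rw [if_neg hij, if_neg (Ne.symm hij), mul_zero]
    · exact Subtype.ext hzx

/-- the pointwise stabiliser -/
def fixP (F : CForm K V) (W : Submodule K V) : Subgroup F.iso where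
  carrier := {g | ∀ w ∈ W, (g : V ≃ₗ[K] V) w = w}
  one_mem' := fun _ _ => rfl
  mul_mem' := by
    intro x y hx hy w hw
    rw [Subgroup.coe_mul, LinearEquiv.mul_apply, hy w hw, hx w hw]
  inv_mem' := by
    intro x hx w hw
    have h1 : ((x⁻¹ : F.iso) : V ≃ₗ[K] V) ((x : V ≃ₗ[K] V) w) = w := (x : V ≃ₗ[K] V).symm_apply_apply w
    rwa [hx w hw] at h1

theorem fixP_le [FiniteDimensional K V] {W : Submodule K V} : fixP F W ≤ stabW F.iso.subtype W := fun g hg =>
  map_eq_of_le F.iso.subtype fun w hw => by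
    change (g : V ≃ₗ[K] V) w ∈ W
    rw [hg w hw]; exact hw

/-- **`W₀ ⟂ W'` of dimension one, `θ ≠ 1`, `ψ` trivial** -/
theorem van_torus [Finite K] [FiniteDimensional K V] [Finite V] {c : GL (Fin 1) K → ℂ} (hc : IsIrrCharacter _ c)
    (hc1 : c 1 = 1) (hne : c ≠ 1) {ψ : F.iso → Submodule K V → ℂ}
    (hψ : ∀ (g : F.iso) (W : Submodule K V), W ∈ F.Om 1 → W.map (F.iso.subtype g : V →ₗ[K] V) = W → ψ g W = 1)
    {W' : Submodule K V} (hW₀ : W₀ ∈ F.Om 1)
    (hW' : W' ∈ F.Om 1) (hperp : W₀ ≤ F.perp W') (h0 : W₀ ⊓ W' = ⊥) : F.Van c ψ W₀ W' := by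
  classical
  have hcf := Core.isIrr_isClassFunction hc
  let b₀ : Basis (Fin 1) K W₀ := finBasisOfFinrankEq K W₀ hW₀.2
  have b₁ : Basis (Fin 1) K W' := finBasisOfFinrankEq K W' hW'.2
  have hf0 : b₀.coord 0 ≠ 0 := by
    intro h
    have h1 : b₀.coord 0 (b₀ 0) = 1 := by simp only [_root_.Fin.isValue, _root_.Module.Basis.coord_apply, _root_.Module.Basis.repr_self, _root_.Finsupp.single_eq_same]
    rw [h] at h1
    simp only [_root_.Fin.isValue, _root_.LinearMap.zero_apply, _root_.zero_ne_one] at h1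
  obtain ⟨b, hb, hb1, hb2⟩ := CForm.exists_sing_dual (F := F) (W' := W') hW₀.1 hperp (b₀.coord 0) (fun w hw => by
    have : (w : V) ∈ W₀ ⊓ W' := ⟨w.2, hw⟩
    rw [h0] at this
    have e : w = 0 := Subtype.ext ((Submodule.mem_bot K).1 this)
    rw [e, map_zero]) hf0
  have hspan : ∀ w : W₀, ∃ t : K, w = t • b₀ 0 := fun w => ⟨b₀.repr w 0, by
    have := b₀.sum_repr w
    rw [Fin.sum_univ_one] at this
    exact this.symm⟩
  have he : F.B (b₀ 0) b = 1 := by
    rw [← hb1]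
    simp only [_root_.Fin.isValue, _root_.Module.Basis.coord_apply, _root_.Module.Basis.repr_self, _root_.Finsupp.single_eq_same]
  have hts : F.TS (K ∙ b) := by
    constructor
    · intro w hw
      obtain ⟨t, rfl⟩ := Submodule.mem_span_singleton.1 hw
      rw [F.Q_smul, hb.1, mul_zero]
    · intro w hw w' hw'
      obtain ⟨t, rfl⟩ := Submodule.mem_span_singleton.1 hw
      obtain ⟨t', rfl⟩ := Submodule.mem_span_singleton.1 hw'
      rw [F.B_smul_left, F.B_smul_right, hb.2, mul_zero, mul_zero]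
  have hlevi := F.exists_levi hW₀.1 hts (fun w hw h => by
      obtain ⟨t, ht⟩ := hspan ⟨w, hw⟩
      have ht' : w = t • (b₀ 0 : V) := congrArg Subtype.val ht
      have h1 := h b (Submodule.mem_span_singleton_self b)
      rw [ht', F.B_smul_left, he, mul_one] at h1
      rw [ht', h1, zero_smul])
    (fun w' hw' h => by
      obtain ⟨t, rfl⟩ := Submodule.mem_span_singleton.1 hw'
      have h1 := h (b₀ 0) (b₀ 0).2
      rw [F.B_smul_right, he, mul_one] at h1
      have h2 : t = 0 := by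
        have := F.σσ t
        rw [h1, map_zero] at this
        exact this.symm
      rw [h2, zero_smul])
  let L : Subgroup F.iso := stabW F.iso.subtype W₀ ⊓ fixP F W'
  refine ⟨L, inf_le_left, inf_le_right.trans fixP_le, fun {_} => ?_⟩
  have hfinW : Finite (W₀ ≃ₗ[K] W₀) :=
    Finite.of_injective (fun e : W₀ ≃ₗ[K] W₀ => (e : W₀ → W₀)) DFunLike.coe_injective
  letI : Fintype (W₀ ≃ₗ[K] W₀) := Fintype.ofFinite _
  letI : Fintype (GL (Fin 1) K) := Fintype.ofFinite _
  let f : L →* (W₀ ≃ₗ[K] W₀) := (resHom F.iso.subtype W₀).comp (Subgroup.inclusion inf_le_left)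
  have hf : Function.Surjective f := by
    intro a
    obtain ⟨g, hg1, -, hg3, hg4⟩ := hlevi a
    refine ⟨⟨g, hg4.1.1, fun w' hw' => ?_⟩, ?_⟩
    · refine hg3 w' (fun w hw => F.B_eq_zero (hperp hw w' hw')) fun w hw => ?_
      obtain ⟨t, rfl⟩ := Submodule.mem_span_singleton.1 hw
      rw [F.B_smul_right, hb2 w' hw', mul_zero]
    · ext w
      exact hg1 w
  have e1 : ∀ l : L, (flagTerm F.iso.subtype c l W₀ * ψ l W₀) * conj (flagTerm F.iso.subtype c l W' * ψ l W') =
      (fun a : W₀ ≃ₗ[K] W₀ => cl c a) (f l) := by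
    intro l
    have hl1 : W₀.map (F.iso.subtype (l : F.iso) : V →ₗ[K] V) = W₀ := l.2.1
    have hl2 : W'.map (F.iso.subtype (l : F.iso) : V →ₗ[K] V) = W' := fixP_le l.2.2
    rw [flagTerm_of F.iso.subtype c hl1, flagTerm_of F.iso.subtype c hl2, hψ _ _ hW₀ hl1, hψ _ _ hW' hl2]
    have e2 : res (F.iso.subtype (l : F.iso)) W' hl2 = 1 := by
      ext w
      exact l.2.2 w w.2
    rw [e2, cl_one hcf b₁, hc1, mul_one, mul_one, map_one, mul_one]
    rfl
  rw [Finset.sum_congr rfl fun l _ => e1 l, sum_comp_hom f hf (fun a : W₀ ≃ₗ[K] W₀ => cl c a)]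
  have h3 : ∑ a : W₀ ≃ₗ[K] W₀, cl c a = ∑ A : GL (Fin 1) K, c A := by
    refine Fintype.sum_equiv (glE b₀).toEquiv _ _ fun a => ?_
    rw [cl_eq hcf b₀]
    rfl
  have h4 := Core.classInner_irr_ne hc (Core.isIrr_one (G := GL (Fin 1) K)) hne
  rw [Core.classInner_def] at h4
  rw [h3]
  rcases mul_eq_zero.1 h4 with h5 | h5
  · exact absurd h5 (inv_ne_zero card_ne_zero')
  · rw [show ∑ A : GL (Fin 1) K, c A = 0 by simpa only [_root_.Pi.one_apply, _root_.map_one, _root_.mul_one] using h5, mul_zero]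

/-- the unipotent radical of the stabiliser of a totally singular subspace -/
def rad (F : CForm K V) (W : Submodule K V) : Subgroup F.iso := fixP F W ⊓ F.TT W

/-- changing the complement -/
theorem Cmp.change (h : Cmp F F' j W₀) (δ : X →ₗ[K] V) (hδ : ∀ x, δ x ∈ W₀) : Cmp F F' (j + δ) W₀ where
  σσ := h.σσ
  ts := h.ts
  jB x y := by
    rw [LinearMap.add_apply, LinearMap.add_apply, F.B_add_left, F.B_add_right, F.B_add_right, h.jB,
      h.j1 x _ (hδ y), F.B_eq_zero (h.j1 y _ (hδ x)), h.ts.2 _ (hδ x) _ (hδ y)]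
    ring
  jQ x := by
    rw [LinearMap.add_apply, F.Q_add, h.jQ, h.ts.1 _ (hδ x), h.j1 x _ (hδ x), F.T_zero]
    ring
  j1 x := (F.perp W₀).add_mem (h.j1 x) (h.ts.le_perp (hδ x))
  j2 v hv := by
    obtain ⟨w, hw, x, rfl⟩ := h.j2 v hv
    exact ⟨w - δ x, W₀.sub_mem hw (hδ x), x, by rw [LinearMap.add_apply]; abel⟩

/-- **`W₀ ⟂ W'`, `ψ₀` cuspidal** -/
theorem van_cusp [Finite K] [FiniteDimensional K V] [Finite V] [FiniteDimensional K X] (h : Cmp F F' j W₀) {k : ℕ}
    {c : GL (Fin k) K → ℂ} (hcf : IsClassFunction _ c) {ρ : stabW F.iso.subtype W₀ →* F'.iso}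
    (hρ : ∀ (g : stabW F.iso.subtype W₀) x, ((g : F.iso) : V ≃ₗ[K] V) (j x) - j ((ρ g : X ≃ₗ[K] X) x) ∈ W₀)
    {ψ₀ : F'.iso → ℂ} (hψ₀ : ∀ U ∈ F'.Om k, ∀ [Fintype (rad F' U)], ∑ u : rad F' U, ψ₀ u = 0)
    {ψ : F.iso → Submodule K V → ℂ} (hψT : ∀ W ∈ F.Om k, ∀ g ∈ F.TT W, ψ g W = ψ 1 W)
    (hψ : ∀ g : stabW F.iso.subtype W₀, ψ g W₀ = ψ₀ (ρ g))
    {W' : Submodule K V} (hW₀ : W₀ ∈ F.Om k)
    (hW' : W' ∈ F.Om k) (hperp : W₀ ≤ F.perp W') (h0 : W₀ ⊓ W' = ⊥) : F.Van c ψ W₀ W' := by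
  classical
  obtain ⟨r, hr, hrj, hrW⟩ := h.exists_proj
  have hWp : W' ≤ F.perp W₀ := fun w' hw' w hw => F.B_eq_zero (hperp hw w' hw')
  have hπ : ∀ v ∈ F.perp W₀, v - j (r v) ∈ W₀ := by
    intro v hv
    obtain ⟨w, hw, x, rfl⟩ := h.j2 v hv
    rw [map_add, hrW w hw, hrj, zero_add, add_sub_cancel_right]
    exact hw
  have hrinj : ∀ w' ∈ W', r w' = 0 → w' = 0 := by
    intro w' hw' h1
    have h2 := hπ w' (hWp hw')
    rw [h1, map_zero, sub_zero] at h2
    have : w' ∈ W₀ ⊓ W' := ⟨h2, hw'⟩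
    rw [h0] at this
    exact (Submodule.mem_bot K).1 this
  -- the new complement
  obtain ⟨δ, hδ, hδ'⟩ : ∃ δ : X →ₗ[K] V, (∀ x, δ x ∈ W₀) ∧ ∀ w' ∈ W', w' = j (r w') + δ (r w') := by
    let π : W' →ₗ[K] X := r.comp W'.subtype
    let t : W' →ₗ[K] W₀ :=
      { toFun := fun w' => ⟨(w' : V) - j (r w'), hπ _ (hWp w'.2)⟩
        map_add' := fun a b => by
          apply Subtype.ext
          change ((a : V) + b) - j (r ((a : V) + b)) = ((a : V) - j (r a)) + ((b : V) - j (r b))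
          rw [map_add, map_add]; abel
        map_smul' := fun a b => by
          apply Subtype.ext
          change (a • (b : V)) - j (r (a • (b : V))) = a • ((b : V) - j (r b))
          rw [map_smul, map_smul, smul_sub] }
    obtain ⟨s, hs⟩ := exists_factor π t (fun w' hw' => by
      have : w' = 0 := Subtype.ext (hrinj w' w'.2 hw')
      rw [this]; exact Submodule.zero_mem _)
    refine ⟨W₀.subtype.comp s, fun x => (s x).2, fun w' hw' => ?_⟩
    have h1 : ((s (π ⟨w', hw'⟩) : W₀) : V) = w' - j (r w') := congrArg Subtype.val (hs ⟨w', hw'⟩)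
    change w' = j (r w') + ((s (π ⟨w', hw'⟩) : W₀) : V)
    rw [h1]; abel
  have h' := Cmp.change h δ hδ
  set j' := j + δ with hj'
  have hj'x : ∀ x, j' x = j x + δ x := fun x => rfl
  have hrj' : ∀ x, r (j' x) = x := by
    intro x
    rw [hj'x, map_add, hrj, hrW _ (hδ x), add_zero]
  have hWj : ∀ w' ∈ W', j' (r w') = w' := fun w' hw' => by rw [hj'x]; exact (hδ' w' hw').symm
  -- the image of `W'`
  let U : Submodule K X := W'.map r
  have hU : U ∈ F'.Om k := by
    refine ⟨⟨?_, ?_⟩, ?_⟩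
    · rintro _ ⟨w', hw', rfl⟩
      rw [← h'.jQ, hWj w' hw']
      exact hW'.1.1 w' hw'
    · rintro _ ⟨w', hw', rfl⟩ _ ⟨w'', hw'', rfl⟩
      rw [← h'.jB, hWj w' hw', hWj w'' hw'']
      exact hW'.1.2 w' hw' w'' hw''
    · rw [← hW'.2]
      have hinj : Function.Injective (r.domRestrict W') := by
        rw [injective_iff_map_eq_zero]
        intro w hw
        exact Subtype.ext (hrinj w w.2 hw)
      have e : U = LinearMap.range (r.domRestrict W') := by
        ext x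
        constructor
        · rintro ⟨w', hw', rfl⟩
          exact ⟨⟨w', hw'⟩, rfl⟩
        · rintro ⟨w', rfl⟩
          exact ⟨w', w'.2, rfl⟩
      rw [e]
      exact LinearMap.finrank_range_of_inj hinj
  have hρr : ∀ (g : stabW F.iso.subtype W₀) v, v ∈ F.perp W₀ → (ρ g : X ≃ₗ[K] X) (r v) = r (((g : F.iso) : V ≃ₗ[K] V) v) := by
    intro g v hv
    have h1 := hrW _ (hρ g (r v))
    rw [map_sub, hrj, sub_eq_zero] at h1
    rw [← h1]
    have h2 : ((g : F.iso) : V ≃ₗ[K] V) (v - j (r v)) ∈ W₀ := by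
      have h3 : W₀.map (F.iso.subtype (g : F.iso) : V →ₗ[K] V) = W₀ := g.2
      have : F.iso.subtype (g : F.iso) (v - j (r v)) ∈ W₀.map (F.iso.subtype (g : F.iso) : V →ₗ[K] V) :=
        ⟨_, hπ v hv, rfl⟩
      rwa [h3] at this
    have h3 := hrW _ h2
    rw [map_sub, map_sub, sub_eq_zero] at h3
    exact h3.symm
  -- the subgroup
  let L : Subgroup F.iso := fixP F W₀ ⊓ (fixP F W' ⊓ F.TT W')
  have hL0 : L ≤ stabW F.iso.subtype W₀ := inf_le_left.trans fixP_le
  refine ⟨L, hL0, (inf_le_right.trans inf_le_left).trans fixP_le, fun {_} => ?_⟩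
  have hfinX : Finite X := Module.finite_of_finite K
  have hfinXi : Finite (X ≃ₗ[K] X) := Finite.of_injective (fun e : X ≃ₗ[K] X => (e : X → X)) DFunLike.coe_injective
  letI : Fintype (rad F' U) := Fintype.ofFinite _
  have hmem : ∀ l : L, ρ ⟨l, hL0 l.2⟩ ∈ rad F' U := by
    intro l
    constructor
    · rintro _ ⟨w', hw', rfl⟩
      rw [hρr _ _ (hWp hw')]
      change r ((l : F.iso).1 w') = r w'
      rw [l.2.2.1 w' hw']
    · refine F'.mem_TT_of hU.1 fun x hx => ?_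
      have h1 : j' x ∈ F.perp W' := by
        intro w' hw'
        rw [← hWj w' hw', h'.jB]
        exact hx _ ⟨w', hw', rfl⟩
      have h2 := l.2.2.2.2 _ h1
      have h3 := hρr ⟨l, hL0 l.2⟩ (j' x) (h'.j1 x)
      rw [hrj'] at h3
      rw [h3]
      refine ⟨_, h2, ?_⟩
      rw [map_sub, hrj']
  let f : L →* rad F' U := (ρ.comp (Subgroup.inclusion hL0)).codRestrict (rad F' U) hmem
  have hf : Function.Surjective f := by
    rintro ⟨b, hb⟩
    obtain ⟨r', hr', hrj'', hrW'⟩ := h'.exists_proj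
    have hr'W' : ∀ w' ∈ W', r' w' = r w' := by
      intro w' hw'
      conv_lhs => rw [← hWj w' hw']
      exact hrj'' _
    have hjr : ∀ v y, F.B (j' y) (v - j' (r' v)) = 0 := by
      intro v y
      rw [F.B_sub_right, hr', h'.jB, sub_self]
    have hjr' : ∀ v y, F.B (v - j' (r' v)) (j' y) = 0 := fun v y => F.B_eq_zero (hjr v y)
    let m : V →ₗ[K] V := (LinearMap.id - j'.comp r') + j'.comp (((b : X ≃ₗ[K] X) : X →ₗ[K] X).comp r')
    have hm : ∀ v, m v = (v - j' (r' v)) + j' ((b : X ≃ₗ[K] X) (r' v)) := fun v => rfl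
    obtain ⟨gb, hgb⟩ := F.exists_iso m (fun v u => by
        have e1 : F.B v u = F.B ((v - j' (r' v)) + j' (r' v)) ((u - j' (r' u)) + j' (r' u)) := by
          rw [sub_add_cancel, sub_add_cancel]
        rw [hm, hm, e1, F.B_add_left, F.B_add_right, F.B_add_right, F.B_add_left, F.B_add_right, F.B_add_right,
          hjr', hjr, hjr', hjr, h'.jB, h'.jB, F'.iso_B])
      (fun v => by
        have e1 : F.Q v = F.Q ((v - j' (r' v)) + j' (r' v)) := by rw [sub_add_cancel]
        rw [hm, e1, F.Q_add, F.Q_add, hjr', hjr', h'.jQ, h'.jQ, F'.iso_Q])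
    have hg0 : ∀ w ∈ W₀, (gb : V ≃ₗ[K] V) w = w := by
      intro w hw
      rw [hgb, hm, hrW' w hw, map_zero, map_zero, map_zero, sub_zero, add_zero]
    have hg1 : ∀ w ∈ W', (gb : V ≃ₗ[K] V) w = w := by
      intro w hw
      have h1 : (b : X ≃ₗ[K] X) (r w) = r w := hb.1 _ ⟨w, hw, rfl⟩
      rw [hgb, hm, hr'W' w hw, h1, sub_add_cancel]
    have hg2 : gb ∈ F.TT W' := by
      refine F.mem_TT_of hW'.1 fun v hv => ?_
      have h1 : r' v ∈ F'.perp U := by
        rintro _ ⟨w', hw', rfl⟩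
        refine F'.B_eq_zero ?_
        rw [← hr', hWj w' hw']
        exact F.B_eq_zero (hv w' hw')
      obtain ⟨w', hw', hw''⟩ := hb.2.2 _ h1
      have h2 : (gb : V ≃ₗ[K] V) v - v = w' := by
        rw [hgb, hm, ← hWj w' hw', hw'', map_sub]
        change v - j' (r' v) + j' (b.1 (r' v)) - v = j' (b.1 (r' v)) - j' (r' v)
        abel
      rw [h2]; exact hw'
    refine ⟨⟨gb, hg0, hg1, hg2⟩, ?_⟩
    apply Subtype.ext
    change ρ ⟨gb, _⟩ = b
    apply Subtype.ext
    ext x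
    have h1 := hrW _ (hρ ⟨gb, fixP_le hg0⟩ x)
    rw [map_sub, hrj, sub_eq_zero] at h1
    rw [← h1]
    change r ((gb : V ≃ₗ[K] V) (j x)) = _
    have h2 : j x = j' x - δ x := by rw [hj'x]; abel
    rw [h2, map_sub, hg0 _ (hδ x), map_sub, hrW _ (hδ x), sub_zero, hgb, hm, hrj'', sub_self, zero_add, hrj']
  have b₀ : Basis (Fin k) K W₀ := finBasisOfFinrankEq K W₀ hW₀.2
  have b₁ : Basis (Fin k) K W' := finBasisOfFinrankEq K W' hW'.2
  have e1 : ∀ l : L, (flagTerm F.iso.subtype c l W₀ * ψ l W₀) * conj (flagTerm F.iso.subtype c l W' * ψ l W') =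
      (fun a : rad F' U => ψ₀ a * (c 1 * conj (c 1 * ψ 1 W'))) (f l) := by
    intro l
    have hl1 : W₀.map (F.iso.subtype (l : F.iso) : V →ₗ[K] V) = W₀ := fixP_le l.2.1
    have hl2 : W'.map (F.iso.subtype (l : F.iso) : V →ₗ[K] V) = W' := fixP_le l.2.2.1
    rw [flagTerm_of F.iso.subtype c hl1, flagTerm_of F.iso.subtype c hl2, hψT _ hW' _ l.2.2.2]
    have e2 : res (F.iso.subtype (l : F.iso)) W' hl2 = 1 := by
      ext w
      exact l.2.2.1 w w.2
    have e3 : res (F.iso.subtype (l : F.iso)) W₀ hl1 = 1 := by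
      ext w
      exact l.2.1 w w.2
    rw [e2, e3, cl_one hcf b₁, cl_one hcf b₀, hψ ⟨l, hL0 l.2⟩]
    change _ = ψ₀ (ρ ⟨l, hL0 l.2⟩) * _
    ring
  rw [Finset.sum_congr rfl fun l _ => e1 l,
    sum_comp_hom f hf (fun a : rad F' U => ψ₀ a * (c 1 * conj (c 1 * ψ 1 W'))), ← Finset.sum_mul, hψ₀ U hU, zero_mul,
    mul_zero]

section one

variable (K)

/-- linear characters as cuspidal data -/
theorem cusOne [Finite K] (σ : K →+* K) {θ : Kˣ →* ℂˣ} (hθ : ∃ z : Kˣ, θ (z * Units.map (σ : K →* K) z) ≠ 1) :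
    Cus K 1 σ (fun _ => False) (linDet θ 1) where
  irr := by
    classical
    letI : Fintype K := Fintype.ofFinite K
    exact isIrr_linDet θ
  cusp := by
    intro D h0 h1
    exfalso
    have h2 : finrank K D ≠ 0 := fun h => h0 (Submodule.finrank_eq_zero.1 h)
    have h3 := Submodule.finrank_lt h1
    rw [finrank_fin_fun] at h3
    omega
  dual := by
    obtain ⟨z, hz⟩ := hθ
    intro h
    apply hz
    have h1 := congrFun h (Matrix.GeneralLinearGroup.scalar (Fin 1) z)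
    have e1 : Matrix.GeneralLinearGroup.det (Matrix.GeneralLinearGroup.scalar (Fin 1) z) = z := by
      apply Units.ext
      rw [Matrix.GeneralLinearGroup.val_det_apply, Matrix.GeneralLinearGroup.coe_scalar]
      simp
    have e2 : Matrix.GeneralLinearGroup.det (((Matrix.GeneralLinearGroup.map σ).comp (invT 1))
        (Matrix.GeneralLinearGroup.scalar (Fin 1) z)) = (Units.map (σ : K →* K) z)⁻¹ := by
      apply Units.ext
      rw [Matrix.GeneralLinearGroup.val_det_apply, MonoidHom.comp_apply]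
      change (Matrix.map _ σ).det = _
      rw [invT_val, ← map_inv, Matrix.GeneralLinearGroup.coe_scalar]
      simp
    unfold linDet at h1
    rw [Function.comp_apply, e1, e2] at h1
    have h2 := Units.ext h1
    rw [map_mul, ← h2, map_inv, inv_mul_cancel]
  scal := fun _ h => h.elim
  deg := by
    unfold linDet
    rw [map_one, map_one]
    simp only [_root_.Units.val_one, _root_.Std.le_refl, _root_.Finset.Ico_eq_empty_of_le, _root_.Finset.prod_empty, _root_.Nat.cast_one]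

end one

theorem dg_one [Finite K] : dg F 1 = Nat.card (F.Om 1) := by
  unfold dg
  simp only [_root_.Nat.card_coe_set_eq, _root_.Std.le_refl, _root_.Finset.Ico_eq_empty_of_le, _root_.Finset.prod_empty, _root_.mul_one]

/-- `D_1` -/
theorem exists_one [Finite K] [FiniteDimensional K V] [Finite V] (hW₀ : W₀ ∈ F.Om 1) {θ : Kˣ →* ℂˣ}
    (hθ : ∃ z : Kˣ, θ (z * Units.map (F.σ : K →* K) z) ≠ 1) :
    ∃ χ : F.iso → ℂ, IsIrrCharacter F.iso χ ∧ χ 1 = Nat.card (F.Om 1) ∧
      ∀ (z : F.iso) (a : Kˣ), (∀ v, (z : V ≃ₗ[K] V) v = (a : K) • v) → θ a = 1 → χ z = χ 1 := by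
  classical
  have := finite_iso F
  have := Fintype.ofFinite (stabW F.iso.subtype W₀)
  have hc := cusOne K F.σ hθ
  have hne : θ ≠ 1 := by
    rintro rfl
    obtain ⟨z, hz⟩ := hθ
    exact hz rfl
  have h1 : IsIrrCharacter (stabW F.iso.subtype W₀) 1 := Core.isIrr_one
  obtain ⟨χ, hχ, hχ1, hχz⟩ := exists_hc_van hc hW₀ h1 (fun _ _ => rfl) (fun W' hW' h2 h3 => by
    refine van_torus hc.irr (by unfold linDet; rw [map_one, map_one]; rfl) (fun h => ?_) ?_ hW₀ hW' h2 h3
    · apply hne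
      ext z
      have h4 := congrFun h (Matrix.GeneralLinearGroup.scalar (Fin 1) z)
      have e1 : Matrix.GeneralLinearGroup.det (Matrix.GeneralLinearGroup.scalar (Fin 1) z) = z := by
        apply Units.ext
        rw [Matrix.GeneralLinearGroup.val_det_apply, Matrix.GeneralLinearGroup.coe_scalar]
        simp
      unfold linDet at h4
      rw [e1] at h4
      exact h4
    · intro g W hW hg
      obtain ⟨x, hx⟩ := F.trans_Om hW₀ hW
      have h5 : x⁻¹ * g * x ∈ stabW F.iso.subtype W₀ := by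
        change W₀.map (F.iso.subtype (x⁻¹ * g * x) : V →ₗ[K] V) = W₀
        rw [map_mul_apply, map_mul_apply, hx, hg, ← hx, ← map_mul_apply, inv_mul_cancel, map_one]
        exact Submodule.map_id _
      rw [psf_eq (Core.isIrr_isClassFunction h1) hx h5]
      rfl)
  refine ⟨χ, hχ, ?_, fun z a hz ha => hχz z a hz fun hs => ?_⟩
  · rw [hχ1, dg_one]
    change _ * (1 : ℂ) = _
    rw [mul_one]
  · unfold linDet
    have e1 : Matrix.GeneralLinearGroup.det (Matrix.GeneralLinearGroup.scalar (Fin 1) a) = a := by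
      apply Units.ext
      rw [Matrix.GeneralLinearGroup.val_det_apply, Matrix.GeneralLinearGroup.coe_scalar]
      simp
    rw [e1, ha, map_one, map_one]
    rfl

/-- `D_1 ⊗ ψ₀` -/
theorem exists_one_cusp [Finite K] [FiniteDimensional K V] [Finite V] [FiniteDimensional K X] (h : Cmp F F' j W₀)
    (hW₀ : W₀ ∈ F.Om 1) {θ : Kˣ →* ℂˣ} (hθ : ∃ z : Kˣ, θ (z * Units.map (F.σ : K →* K) z) ≠ 1)
    {ψ₀ : F'.iso → ℂ} (hψ : IsIrrCharacter _ ψ₀)
    (hψ₀ : ∀ U ∈ F'.Om 1, ∀ [Fintype (rad F' U)], ∑ u : rad F' U, ψ₀ u = 0) :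
    ∃ χ : F.iso → ℂ, IsIrrCharacter F.iso χ ∧ χ 1 = Nat.card (F.Om 1) * ψ₀ 1 ∧
      ∀ (z : F.iso) (a : Kˣ), (∀ v, (z : V ≃ₗ[K] V) v = (a : K) • v) →
        (∀ z' : F'.iso, (∀ x, (z' : X ≃ₗ[K] X) x = (a : K) • x) → ((θ a : ℂˣ) : ℂ) * ψ₀ z' = ψ₀ 1) → χ z = χ 1 := by
  classical
  have := finite_iso F
  have hc := cusOne K F.σ hθ
  obtain ⟨ρ, hρ1, hρ2, hρ3⟩ := h.exists_rho
  obtain ⟨r, hr, hrj, hrW⟩ := h.exists_proj
  have hsurj : Function.Surjective ρ := fun b => by
    obtain ⟨g, hg, -⟩ := hρ3 1 b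
    exact ⟨g, hg⟩
  have hirr := Core.isIrr_comp ρ hsurj hψ
  have hcl1 := Core.isIrr_isClassFunction hirr
  have hψT : ∀ W ∈ F.Om 1, ∀ g ∈ F.TT W, psf F W₀ (ψ₀ ∘ ρ) g W = psf F W₀ (ψ₀ ∘ ρ) 1 W := by
    intro W hWk g hg
    obtain ⟨x, hx⟩ := F.trans_Om hW₀ hWk
    have h1 := TT_conj hx hg
    have h2 : x⁻¹ * 1 * x ∈ stabW F.iso.subtype W₀ := by
      rw [mul_one, inv_mul_cancel]; exact Subgroup.one_mem _
    rw [psf_eq hcl1 hx h1.1, psf_eq hcl1 hx h2, Function.comp_apply, Function.comp_apply, hρ2 _ h1]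
    congr 1
    rw [show (⟨x⁻¹ * 1 * x, h2⟩ : stabW F.iso.subtype W₀) = 1 from Subtype.ext (by
      change x⁻¹ * 1 * x = 1
      group), map_one]
  obtain ⟨χ, hχ, hχ1, hχz⟩ := exists_hc_van hc hW₀ hirr (fun g hg => by
    rw [Function.comp_apply, Function.comp_apply, hρ2 g hg, map_one])
    (fun W' hW' h2 h3 => van_cusp h (Core.isIrr_isClassFunction hc.irr) hρ1 hψ₀ hψT (fun g => by
      rw [psf_self hcl1]; rfl) hW₀ hW' h2 h3)
  refine ⟨χ, hχ, by rw [hχ1, Function.comp_apply, map_one, dg_one], fun z a hz h1 => hχz z a hz fun hs => ?_⟩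
  rw [Function.comp_apply, Function.comp_apply, map_one]
  unfold linDet
  have e1 : Matrix.GeneralLinearGroup.det (Matrix.GeneralLinearGroup.scalar (Fin 1) a) = a := by
    apply Units.ext
    rw [Matrix.GeneralLinearGroup.val_det_apply, Matrix.GeneralLinearGroup.coe_scalar]
    simp
  rw [e1, map_one, map_one, Units.val_one, one_mul]
  refine h1 _ fun x => ?_
  have h2 := hrW _ (hρ1 ⟨z, hs⟩ x)
  rw [map_sub, hrj, sub_eq_zero] at h2
  rw [← h2]
  change r ((z : V ≃ₗ[K] V) (j x)) = _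
  rw [hz, map_smul, hrj]

end Cfsg.Agent.H113.Two.HcOne
end

-- part: H113/Two/SplitForm
section
prune_inst 0x100344545400000001c001022000085700005020000000040a0050200084240a00380010ca00400000208800000000002100010402000000084000000000100002810008008001100000000028c010002000000000000000000000000000000014010000
set_option linter.all false
open scoped Cfsg.Agent.FastGrp

/-!
# The split BN pair of rank one of the isometry group of a form of Witt index one (helper113)

`split` : `F = ⟨e, f⟩ ⟂ F'`, `F'` anisotropic with an abelian isometry group;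
`cusp_form` : a cuspidal character, of degree divisible by any odd prime `p` with an element of order `p` in `K` fixed by
`σ`; `st_form` : the Steinberg character.
-/

set_option autoImplicit false
set_option linter.unusedSectionVars false
set_option linter.style.haveILetI false

open scoped ComplexConjugate
open Cfsg

namespace Cfsg.Agent.H113.Two.SplitForm

open Cfsg.Agent.OddOrderCharacters.Clifford Cfsg.Agent.Characters MulAction Module Cfsg.Agent.H53.HC
open Cfsg.Agent.H477.HC Cfsg.Agent.H477.HC.CForm Cfsg.Agent.H749.Two Cfsg.Agent.H113.Two.HcOne Cfsg.Agent.H664.R1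

universe u v w

variable {K : Type u} [Field K] {V : Type v} [AddCommGroup V] [Module K V] {X : Type w} [AddCommGroup X] [Module K X]
variable {F : CForm K V} {F' : CForm K X} {e f : V} {j : X →ₗ[K] V}

/-- **transitivity on the hyperbolic partners**, with the action on `eᗮ` -/
theorem trans_hyp' [FiniteDimensional K V] {e f f' : V} (he : F.Sing e) (hf : F.Sing f) (hf' : F.Sing f')
    (hef : F.B e f = 1) (hef' : F.B e f' = 1) :
    ∃ g : F.iso, (g : V ≃ₗ[K] V) e = e ∧ (g : V ≃ₗ[K] V) f = f' ∧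
      ∀ v, F.B v e = 0 → (g : V ≃ₗ[K] V) v - v ∈ Submodule.span K {e} := by
  have hfe : F.B f e = F.ε := by rw [F.B_symm, hef, map_one, mul_one]
  have hfe' : F.B f' e = F.ε := by rw [F.B_symm, hef', map_one, mul_one]
  obtain ⟨c, hc⟩ : ∃ c, c = F.B f' f := ⟨_, rfl⟩
  obtain ⟨x, hx⟩ : ∃ x, x = f' - f - c • e := ⟨_, rfl⟩
  have hf'x : f' = x + (f + c • e) := by rw [hx]; abel
  have hxe : F.B x e = 0 := by
    rw [hx, F.B_sub_left, F.B_sub_left, F.B_smul_left, he.2, hfe, hfe']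
    ring
  have hxf : F.B x f = 0 := by
    rw [hx, F.B_sub_left, F.B_sub_left, F.B_smul_left, hef, hf.2, ← hc]
    ring
  have hex := F.B_eq_zero hxe
  have hfx := F.B_eq_zero hxf
  have hε := F.ε_ne
  have hσε : F.σ F.ε⁻¹ = F.ε := F.σεi
  -- singularity of `f'`
  have q1 : F.B x x + (c + F.σ c * F.ε) = 0 := by
    have h := hf'.2
    rw [hf'x] at h
    simp only [F.B_add_left, F.B_add_right, F.B_smul_left, F.B_smul_right, hxe, hxf, hex, hfx, hf.2, he.2, hef, hfe,
      mul_zero, zero_add, add_zero, mul_one] at h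
    linear_combination h
  have q2 : F.Q x + F.T (F.σ c * F.ε) = 0 := by
    have h := hf'.1
    rw [hf'x, F.Q_add, F.Q_add, F.Q_smul, hf.1, he.1, F.B_add_right, F.B_smul_right, F.B_smul_right, hxf, hxe, hfe,
      mul_zero, mul_zero, add_zero, F.T_zero, zero_add] at h
    linear_combination h
  obtain ⟨g, hg⟩ := F.exists_siegel he hf hef (y := F.ε⁻¹ • x) (t := c * F.ε⁻¹)
    (by rw [F.B_smul_left, hxe, mul_zero])
    (by
      rw [F.B_smul_left, F.B_smul_right, map_mul, hσε]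
      have : F.ε⁻¹ * (F.ε * F.B x x) = F.B x x := by rw [← mul_assoc, inv_mul_cancel₀ hε, one_mul]
      rw [this, mul_assoc c, inv_mul_cancel₀ hε, mul_one]
      linear_combination q1)
    (by
      rw [F.Q_smul, hσε, inv_mul_cancel₀ hε, one_mul, map_mul, hσε]
      exact q2)
  refine ⟨g, ?_, ?_, fun v hv => ?_⟩
  · rw [hg, he.2, F.B_smul_right, hex]
    simp
  · rw [hg, hfe, F.B_smul_right, hfx, mul_zero, mul_zero, sub_zero, smul_smul, mul_inv_cancel₀ hε, one_smul,
      mul_assoc, inv_mul_cancel₀ hε, mul_one, hf'x]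
    abel
  · rw [hg, hv, zero_smul, add_zero, add_sub_cancel_left]
    exact Submodule.smul_mem _ _ (Submodule.mem_span_singleton_self e)

theorem mem_fixP_span {e : V} {g : F.iso} (h : (g : V ≃ₗ[K] V) e = e) : g ∈ fixP F (Submodule.span K {e}) := by
  intro w hw
  obtain ⟨c, rfl⟩ := Submodule.mem_span_singleton.1 hw
  rw [map_smul, h]

theorem perp_span {e v : V} (h : F.B v e = 0) : v ∈ F.perp (Submodule.span K {e}) := by
  intro w hw
  obtain ⟨c, rfl⟩ := Submodule.mem_span_singleton.1 hw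
  rw [F.B_smul_right, h, mul_zero]

/-- conjugates of the radical -/
theorem rad_conj {W₀ W : Submodule K V} {g x : F.iso} (hx : W₀.map (F.iso.subtype x : V →ₗ[K] V) = W)
    (hg : g ∈ rad F W) : x⁻¹ * g * x ∈ rad F W₀ := by
  refine ⟨fun w hw => ?_, TT_conj hx hg.2⟩
  change ((x⁻¹ : F.iso) : V ≃ₗ[K] V) ((g : V ≃ₗ[K] V) ((x : V ≃ₗ[K] V) w)) = w
  have h1 : (x : V ≃ₗ[K] V) w ∈ W := by
    rw [← hx]
    exact ⟨w, hw, rfl⟩
  rw [hg.1 _ h1]
  exact (x : V ≃ₗ[K] V).symm_apply_apply w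

section split

variable (h : Hyp F F' e f j)

include h

/-- decomposition -/
theorem dec3 (v : V) : ∃ x, v = F.B v f • e + (F.B v e * F.ε⁻¹) • f + j x := by
  have hε := F.ε_ne
  obtain ⟨x, hx⟩ := h.dec (v - F.B v f • e - (F.B v e * F.ε⁻¹) • f)
    (by
      rw [F.B_sub_left, F.B_sub_left, F.B_smul_left, F.B_smul_left, h.he.2, h.hfe, mul_zero, sub_zero, mul_assoc,
        inv_mul_cancel₀ hε, mul_one, sub_self])
    (by
      rw [F.B_sub_left, F.B_sub_left, F.B_smul_left, F.B_smul_left, h.hf.2, h.hef, mul_zero, sub_zero, mul_one, sub_self])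
  exact ⟨x, by rw [← hx]; abel⟩

theorem iso_ext {g g' : F.iso} (h1 : (g : V ≃ₗ[K] V) e = (g' : V ≃ₗ[K] V) e)
    (h2 : (g : V ≃ₗ[K] V) f = (g' : V ≃ₗ[K] V) f) (h3 : ∀ x, (g : V ≃ₗ[K] V) (j x) = (g' : V ≃ₗ[K] V) (j x)) :
    g = g' := by
  apply Subtype.ext
  ext v
  obtain ⟨x, hx⟩ := dec3 h v
  rw [hx, map_add, map_add, map_add, map_add, map_smul, map_smul, map_smul, map_smul, h1, h2, h3]

/-- the action of the torus on the complement -/
theorem torus_j [FiniteDimensional K X] {t : F.iso} {a b : K} (h1 : (t : V ≃ₗ[K] V) e = a • e)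
    (h2 : (t : V ≃ₗ[K] V) f = b • f) : ∃ s : F'.iso, ∀ x, (t : V ≃ₗ[K] V) (j x) = j ((s : X ≃ₗ[K] X) x) := by
  have ha : F.σ a ≠ 0 := by
    rw [Ne, map_eq_zero]
    rintro rfl
    rw [zero_smul] at h1
    exact h.e0 ((t : V ≃ₗ[K] V).map_eq_zero_iff.1 h1)
  have hb : F.σ b ≠ 0 := by
    rw [Ne, map_eq_zero]
    rintro rfl
    rw [zero_smul] at h2
    exact h.f0 ((t : V ≃ₗ[K] V).map_eq_zero_iff.1 h2)
  have hex : ∀ x, ∃ y, (t : V ≃ₗ[K] V) (j x) = j y := by
    intro x
    refine h.dec _ ?_ ?_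
    · have := F.iso_B t (j x) e
      rw [h1, F.B_smul_right, h.hje] at this
      exact (mul_eq_zero.1 this).resolve_left ha
    · have := F.iso_B t (j x) f
      rw [h2, F.B_smul_right, h.hjf] at this
      exact (mul_eq_zero.1 this).resolve_left hb
  choose φ hφ using hex
  let φ' : X →ₗ[K] X :=
    { toFun := φ
      map_add' := fun x y => h.inj (by rw [← hφ, map_add, map_add, map_add, hφ, hφ])
      map_smul' := fun c x => h.inj (by rw [← hφ, map_smul, map_smul, RingHom.id_apply, map_smul, hφ]) }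
  obtain ⟨s, hs⟩ := F'.exists_iso φ' (fun x y => by
      change F'.B (φ x) (φ y) = _
      rw [← h.hjB, ← hφ, ← hφ, F.iso_B, h.hjB])
    (fun x => by
      change F'.Q (φ x) = _
      rw [← h.hjQ, ← hφ, F.iso_Q, h.hjQ])
  exact ⟨s, fun x => by rw [hφ, hs]; rfl⟩

/-- points different from `e` are opposite -/
theorem not_perp (hani : ∀ x, F'.Sing x → x = 0) {x : F.Pt} (hx : x ≠ F.pt e h.e0 h.he) :
    ¬ F.Perp (F.pt e h.e0 h.he) x := by
  obtain ⟨v, h0, hv, rfl⟩ := F.exists_pt x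
  rw [F.perp_pt]
  intro h1
  apply hx
  obtain ⟨y, hy⟩ := h.dec_e (F.B_eq_zero h1)
  have h2 := hv
  rw [hy] at h2
  have h3 := hani y (h.sing_ej.1 h2)
  rw [h3, map_zero, add_zero] at hy
  rw [F.pt_eq_iff]
  refine ⟨F.B v f, ?_, hy⟩
  intro h4
  rw [h4, zero_smul] at hy
  exact h0 hy

theorem ef_not_perp : ¬ F.Perp (F.pt e h.e0 h.he) (F.pt f h.f0 h.hf) := by
  rw [F.perp_pt, h.hef]
  exact one_ne_zero

theorem ef_ne : F.pt e h.e0 h.he ≠ F.pt f h.f0 h.hf := by
  intro h1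
  apply ef_not_perp h
  rw [← h1]
  exact F.perp_self _

theorem stab_e {g : F.iso} (hg : g • F.pt e h.e0 h.he = F.pt e h.e0 h.he) : ∃ c : K, c ≠ 0 ∧ (g : V ≃ₗ[K] V) e = c • e := by
  rw [F.smul_pt, F.pt_eq_iff] at hg
  exact hg

theorem stab_f {g : F.iso} (hg : g • F.pt f h.f0 h.hf = F.pt f h.f0 h.hf) : ∃ c : K, c ≠ 0 ∧ (g : V ≃ₗ[K] V) f = c • f := by
  rw [F.smul_pt, F.pt_eq_iff] at hg
  exact hg

theorem rad_le [FiniteDimensional K V] {g : F.iso} (hg : g ∈ rad F (Submodule.span K {e})) :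
    g • F.pt e h.e0 h.he = F.pt e h.e0 h.he := by
  apply Subtype.ext
  exact fixP_le hg.1

theorem mem_rad [FiniteDimensional K V] {g : F.iso} (h1 : (g : V ≃ₗ[K] V) e = e)
    (h2 : ∀ v, F.B v e = 0 → (g : V ≃ₗ[K] V) v - v ∈ Submodule.span K {e}) : g ∈ rad F (Submodule.span K {e}) := by
  refine ⟨mem_fixP_span h1, F.mem_TT_of (F.TS_span_singleton h.he) fun v hv => ?_⟩
  exact h2 v (hv e (Submodule.mem_span_singleton_self e))

theorem rad_torus [FiniteDimensional K V] {g : F.iso} (hg : g ∈ rad F (Submodule.span K {e})) {c : K}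
    (hc : (g : V ≃ₗ[K] V) f = c • f) : g = 1 := by
  have h1 : (g : V ≃ₗ[K] V) e = e := hg.1 e (Submodule.mem_span_singleton_self e)
  have h2 : c = 1 := by
    have := F.iso_B g e f
    rw [h1, hc, F.B_smul_right, h.hef, mul_one] at this
    have h3 := congrArg F.σ this
    rwa [F.σσ, map_one] at h3
  rw [h2, one_smul] at hc
  refine iso_ext h (by rw [h1]; rfl) (by rw [hc]; rfl) fun x => ?_
  have h3 := hg.2.2 (j x) (perp_span (h.hje x))
  obtain ⟨a, ha⟩ := Submodule.mem_span_singleton.1 h3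
  have h4 : (g : V ≃ₗ[K] V) (j x) = j x + a • e := by
    have h5 : a • e = (g : V ≃ₗ[K] V) (j x) - j x := ha
    rw [h5]; abel
  have h5 := F.iso_B g (j x) f
  rw [h4, hc, F.B_add_left, F.B_smul_left, h.hef, mul_one, h.hjf, zero_add] at h5
  rw [h4, h5, zero_smul, add_zero]
  rfl

/-- **the split BN pair of rank one** -/
noncomputable def split [FiniteDimensional K V] [FiniteDimensional K X] (hani : ∀ x, F'.Sing x → x = 0)
    (hcomm : ∀ a b : F'.iso, a * b = b * a) : Split F.iso where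
  B := MulAction.stabilizer F.iso (F.pt e h.e0 h.he)
  U := rad F (Submodule.span K {e})
  T := MulAction.stabilizer F.iso (F.pt e h.e0 h.he) ⊓ MulAction.stabilizer F.iso (F.pt f h.f0 h.hf)
  w := (F.trans_opp (ef_not_perp h) (fun h1 => ef_not_perp h h1.symm)).choose
  UB := fun g hg => rad_le h hg
  TB := inf_le_left
  nU := by
    intro b hb u hu
    have h1 : b⁻¹ • F.pt e h.e0 h.he = F.pt e h.e0 h.he := by
      rw [inv_smul_eq_iff]; exact (MulAction.mem_stabilizer_iff.1 hb).symm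
    have h2 : (Submodule.span K {e}).map (F.iso.subtype b⁻¹ : V →ₗ[K] V) = Submodule.span K {e} := congrArg Subtype.val h1
    have h3 := rad_conj h2 hu
    rwa [inv_inv] at h3
  dec := by
    intro b hb
    obtain ⟨c, hc0, hc⟩ := stab_e h (MulAction.mem_stabilizer_iff.1 hb)
    have h1 : c * F.B e ((b : V ≃ₗ[K] V) f) = 1 := by
      rw [← F.B_smul_left, ← hc, F.iso_B, h.hef]
    have h2 : F.B e (F.σ c • (b : V ≃ₗ[K] V) f) = 1 := by
      rw [F.B_smul_right, F.σσ, h1]
    obtain ⟨g, hg1, hg2, hg3⟩ := trans_hyp' h.he h.hf (F.sing_smul (F.sing_map b h.hf) _) h.hef h2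
    have hsc : F.σ c ≠ 0 := by rwa [Ne, map_eq_zero]
    refine ⟨g, mem_rad h hg1 hg3, g⁻¹ * b, ⟨?_, ?_⟩, by group⟩
    · refine MulAction.mem_stabilizer_iff.2 ?_
      rw [mul_smul, MulAction.mem_stabilizer_iff.1 hb, inv_smul_eq_iff]
      exact (rad_le h (mem_rad h hg1 hg3)).symm
    · refine MulAction.mem_stabilizer_iff.2 ?_
      rw [mul_smul, inv_smul_eq_iff, F.smul_pt, F.smul_pt, F.pt_eq_iff]
      exact ⟨(F.σ c)⁻¹, inv_ne_zero hsc, by rw [hg2, smul_smul, inv_mul_cancel₀ hsc, one_smul]⟩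
  disj := by
    rintro u hu ⟨-, hu2⟩
    obtain ⟨c, -, hc⟩ := stab_f h (MulAction.mem_stabilizer_iff.1 hu2)
    exact rad_torus h hu hc
  comm := by
    rintro s ⟨hs1, hs2⟩ t ⟨ht1, ht2⟩
    obtain ⟨a, -, ha⟩ := stab_e h (MulAction.mem_stabilizer_iff.1 hs1)
    obtain ⟨b, -, hb⟩ := stab_f h (MulAction.mem_stabilizer_iff.1 hs2)
    obtain ⟨a', -, ha'⟩ := stab_e h (MulAction.mem_stabilizer_iff.1 ht1)
    obtain ⟨b', -, hb'⟩ := stab_f h (MulAction.mem_stabilizer_iff.1 ht2)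
    obtain ⟨x, hx⟩ := torus_j h ha hb
    obtain ⟨y, hy⟩ := torus_j h ha' hb'
    refine iso_ext h ?_ ?_ fun z => ?_
    · change (s : V ≃ₗ[K] V) ((t : V ≃ₗ[K] V) e) = (t : V ≃ₗ[K] V) ((s : V ≃ₗ[K] V) e)
      rw [ha, ha', map_smul, map_smul, ha, ha', smul_smul, smul_smul, mul_comm]
    · change (s : V ≃ₗ[K] V) ((t : V ≃ₗ[K] V) f) = (t : V ≃ₗ[K] V) ((s : V ≃ₗ[K] V) f)
      rw [hb, hb', map_smul, map_smul, hb, hb', smul_smul, smul_smul, mul_comm]
    · change (s : V ≃ₗ[K] V) ((t : V ≃ₗ[K] V) (j z)) = (t : V ≃ₗ[K] V) ((s : V ≃ₗ[K] V) (j z))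
      rw [hy, hx, hx, hy]
      have h1 := hcomm x y
      have h2 : (x : X ≃ₗ[K] X) ((y : X ≃ₗ[K] X) z) = ((x * y : F'.iso) : X ≃ₗ[K] X) z := rfl
      have h3 : (y : X ≃ₗ[K] X) ((x : X ≃ₗ[K] X) z) = ((y * x : F'.iso) : X ≃ₗ[K] X) z := rfl
      rw [h2, h3, h1]
  wT := by
    have hw := (F.trans_opp (ef_not_perp h) (fun h1 => ef_not_perp h h1.symm)).choose_spec
    obtain ⟨w, hw'⟩ : ∃ w, w = (F.trans_opp (ef_not_perp h) (fun h1 => ef_not_perp h h1.symm)).choose := ⟨_, rfl⟩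
    rw [← hw'] at hw ⊢
    rintro t ⟨ht1, ht2⟩
    have ht1' := MulAction.mem_stabilizer_iff.1 ht1
    have ht2' := MulAction.mem_stabilizer_iff.1 ht2
    constructor
    · refine MulAction.mem_stabilizer_iff.2 ?_
      rw [mul_smul, mul_smul, hw.1, ht2', ← hw.1, inv_smul_smul]
    · refine MulAction.mem_stabilizer_iff.2 ?_
      rw [mul_smul, mul_smul, hw.2, ht1', ← hw.2, inv_smul_smul]
  wT' := by
    have hw := (F.trans_opp (ef_not_perp h) (fun h1 => ef_not_perp h h1.symm)).choose_spec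
    obtain ⟨w, hw'⟩ : ∃ w, w = (F.trans_opp (ef_not_perp h) (fun h1 => ef_not_perp h h1.symm)).choose := ⟨_, rfl⟩
    rw [← hw'] at hw ⊢
    have hw1 : w⁻¹ • F.pt f h.f0 h.hf = F.pt e h.e0 h.he := by rw [inv_smul_eq_iff, hw.1]
    have hw2 : w⁻¹ • F.pt e h.e0 h.he = F.pt f h.f0 h.hf := by rw [inv_smul_eq_iff, hw.2]
    rintro t ⟨ht1, ht2⟩
    have ht1' := MulAction.mem_stabilizer_iff.1 ht1
    have ht2' := MulAction.mem_stabilizer_iff.1 ht2
    constructor
    · refine MulAction.mem_stabilizer_iff.2 ?_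
      rw [mul_smul, mul_smul, hw2, ht2', hw.2]
    · refine MulAction.mem_stabilizer_iff.2 ?_
      rw [mul_smul, mul_smul, hw1, ht1', hw.1]
  cap := by
    have hw := (F.trans_opp (ef_not_perp h) (fun h1 => ef_not_perp h h1.symm)).choose_spec
    obtain ⟨w, hw'⟩ : ∃ w, w = (F.trans_opp (ef_not_perp h) (fun h1 => ef_not_perp h h1.symm)).choose := ⟨_, rfl⟩
    rw [← hw'] at hw ⊢
    intro b hb hb'
    refine ⟨hb, ?_⟩
    have h1 := MulAction.mem_stabilizer_iff.1 hb'
    rw [mul_smul, mul_smul, hw.1, inv_smul_eq_iff, hw.1] at h1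
    exact h1
  big := by
    have hw := (F.trans_opp (ef_not_perp h) (fun h1 => ef_not_perp h h1.symm)).choose_spec
    obtain ⟨w, hw'⟩ : ∃ w, w = (F.trans_opp (ef_not_perp h) (fun h1 => ef_not_perp h h1.symm)).choose := ⟨_, rfl⟩
    rw [← hw'] at hw ⊢
    intro x hx
    have h1 : x • F.pt e h.e0 h.he ≠ F.pt e h.e0 h.he := fun h2 => hx (MulAction.mem_stabilizer_iff.2 h2)
    obtain ⟨g, hg1, hg2⟩ := F.trans_opp (ef_not_perp h) (not_perp h hani h1)
    refine ⟨g, MulAction.mem_stabilizer_iff.2 hg1, w⁻¹ * g⁻¹ * x, ?_, by group⟩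
    refine MulAction.mem_stabilizer_iff.2 ?_
    rw [mul_smul, mul_smul, ← hg2, inv_smul_smul, ← hw.1, inv_smul_smul]
  wB := by
    have hw := (F.trans_opp (ef_not_perp h) (fun h1 => ef_not_perp h h1.symm)).choose_spec
    intro h1
    have h2 := MulAction.mem_stabilizer_iff.1 h1
    rw [hw.1] at h2
    exact ef_ne h h2.symm

/-- the sums over the radicals -/
theorem sum_rad [FiniteDimensional K V] [Finite V] {ψ : F.iso → ℂ} (hψ : IsClassFunction _ ψ)
    (h0 : NoFix (rad F (Submodule.span K {e})) ψ) {U : Submodule K V} (hU : U ∈ F.Om 1) [Fintype (rad F U)] :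
    ∑ u : rad F U, ψ u = 0 := by
  classical
  have := finite_iso F
  letI : Fintype (rad F (Submodule.span K {e})) := Fintype.ofFinite _
  rw [← noFix_iff.1 h0]
  obtain ⟨x, hx⟩ := F.trans_Om (F.pt e h.e0 h.he).2 hU
  have hx' : U.map (F.iso.subtype x⁻¹ : V →ₗ[K] V) = Submodule.span K {e} := by
    rw [← hx, ← map_mul_apply, inv_mul_cancel, map_one]
    exact Submodule.map_id _
  have hback : ∀ g : rad F (Submodule.span K {e}), x * (g : F.iso) * x⁻¹ ∈ rad F U := by
    intro g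
    have := rad_conj hx' g.2
    rwa [inv_inv] at this
  let E : rad F U ≃ rad F (Submodule.span K {e}) :=
    { toFun := fun g => ⟨x⁻¹ * g * x, rad_conj hx g.2⟩
      invFun := fun g => ⟨x * g * x⁻¹, hback g⟩
      left_inv := fun g => Subtype.ext (by
        change x * (x⁻¹ * g * x) * x⁻¹ = g
        group)
      right_inv := fun g => Subtype.ext (by
        change x⁻¹ * (x * g * x⁻¹) * x = g
        group) }
  refine Fintype.sum_equiv E _ _ fun g => ?_
  change ψ g = ψ (x⁻¹ * g * x)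
  have h1 := hψ (g : F.iso) x⁻¹
  rw [inv_inv] at h1
  exact h1.symm

theorem one_lt_rad [FiniteDimensional K V] [Finite V] {f' : V} (hf' : F.Sing f') (hef' : F.B e f' = 1)
    (hne : f' ≠ f) : 1 < Nat.card (rad F (Submodule.span K {e})) := by
  have := finite_iso F
  obtain ⟨g, hg1, hg2, hg3⟩ := trans_hyp' h.he h.hf hf' h.hef hef'
  have h1 : Nontrivial (rad F (Submodule.span K {e})) := by
    refine ⟨⟨⟨g, mem_rad h hg1 hg3⟩, 1, ?_⟩⟩
    intro h2
    have h3 : g = 1 := congrArg Subtype.val h2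
    rw [h3] at hg2
    exact hne hg2.symm
  exact Finite.one_lt_card

/-- the torus elements -/
theorem exists_torus [FiniteDimensional K V] {a : K} (ha : a ≠ 0) :
    ∃ t : F.iso, (t : V ≃ₗ[K] V) e = a • e ∧ (t : V ≃ₗ[K] V) f = (F.σ a)⁻¹ • f ∧
      ∀ x, (t : V ≃ₗ[K] V) (j x) = j x := by
  have hW := F.TS_span_singleton h.he
  have hW' := F.TS_span_singleton h.hf
  obtain ⟨t, h1, h2, h3, -⟩ := F.exists_levi hW hW' (fun w hw hw0 => by
      obtain ⟨c, rfl⟩ := Submodule.mem_span_singleton.1 hw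
      have h4 := hw0 f (Submodule.mem_span_singleton_self f)
      rw [F.B_smul_left, h.hef, mul_one] at h4
      rw [h4, zero_smul])
    (fun w hw hw0 => by
      obtain ⟨c, rfl⟩ := Submodule.mem_span_singleton.1 hw
      have h4 := hw0 e (Submodule.mem_span_singleton_self e)
      rw [F.B_smul_right, h.hef, mul_one, map_eq_zero] at h4
      rw [h4, zero_smul])
    (LinearEquiv.smulOfNeZero K (Submodule.span K {e}) a ha)
  have h1' : (t : V ≃ₗ[K] V) e = a • e := h1 ⟨e, Submodule.mem_span_singleton_self e⟩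
  obtain ⟨c, hc⟩ := Submodule.mem_span_singleton.1 (h2 f (Submodule.mem_span_singleton_self f))
  refine ⟨t, h1', ?_, fun x => h3 _ (perp_span (h.hje x)) (perp_span (h.hjf x))⟩
  have h5 := F.iso_B t e f
  rw [h1', ← hc, F.B_smul_left, F.B_smul_right, h.hef, mul_one] at h5
  have h6 : c = (F.σ a)⁻¹ := by
    have h7 : F.σ c = a⁻¹ := eq_inv_of_mul_eq_one_right h5
    rw [← F.σσ c, h7, map_inv₀]
  rw [← hc, h6]

/-- the radical is a `p`-group -/
theorem rad_isPGroup [FiniteDimensional K V] {p : ℕ} [Fact p.Prime] [CharP K p] :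
    IsPGroup p (rad F (Submodule.span K {e})) := by
  rintro ⟨g, hg⟩
  refine ⟨2, ?_⟩
  have hts := F.TS_span_singleton h.he
  have h1' : ∀ w ∈ Submodule.span K {e}, (g : V ≃ₗ[K] V) w = w := hg.1
  have h3 : ∀ v ∈ F.perp (Submodule.span K {e}), (g : V ≃ₗ[K] V) v - v ∈ Submodule.span K {e} := hg.2.2
  have h4 : ∀ v, (g : V ≃ₗ[K] V) v - v ∈ F.perp (Submodule.span K {e}) := by
    intro v w hw
    rw [F.B_sub_left]
    nth_rewrite 1 [← h1' w hw]
    rw [F.iso_B, sub_self]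
  let N : V →ₗ[K] V := ((g : V ≃ₗ[K] V) : V →ₗ[K] V) - LinearMap.id
  have hNv : ∀ v, N v = (g : V ≃ₗ[K] V) v - v := fun v => rfl
  have hN3 : ∀ v, N (N (N v)) = 0 := by
    intro v
    have h5 : N (N v) ∈ Submodule.span K {e} := h3 _ (h4 v)
    rw [hNv, h1' _ h5, sub_self]
  have hcast : ∀ n : ℕ, p ∣ n → ∀ v : V, n • v = 0 := by
    intro n hn v
    have h6 : (n : K) = 0 := (CharP.cast_eq_zero_iff K p n).2 hn
    have h7 : (n : K) • v = n • v := Nat.cast_smul_eq_nsmul K n v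
    rw [← h7, h6, zero_smul]
  have hpp : p.Prime := Fact.out
  have hp2 : 2 ≤ p := hpp.two_le
  apply Subtype.ext
  apply Subtype.ext
  ext v
  change ((g : V ≃ₗ[K] V) ^ (p ^ 2)) v = v
  rw [CForm.pow_unip (g := (g : V ≃ₗ[K] V)) (N := N) (fun v => by rw [hNv]; abel) hN3,
    hcast _ (dvd_pow_self p two_ne_zero),
    hcast _ (hpp.dvd_choose_pow two_ne_zero (by nlinarith)), add_zero, add_zero]

/-- **the cuspidal character** -/
theorem cusp_form [FiniteDimensional K V] [FiniteDimensional K X] [Finite V] (hani : ∀ x, F'.Sing x → x = 0)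
    (hcomm : ∀ a b : F'.iso, a * b = b * a) {f' : V} (hf' : F.Sing f') (hef' : F.B e f' = 1) (hne : f' ≠ f) :
    ∃ ψ : F.iso → ℂ, IsIrrCharacter _ ψ ∧
      (∀ U ∈ F.Om 1, ∀ [Fintype (rad F U)], ∑ u : rad F U, ψ u = 0) ∧
      ∀ p : ℕ, p.Prime → p ≠ 2 → ∀ a : K, a ^ p = 1 → a ≠ 1 → F.σ a = a → ∀ n : ℕ, ψ 1 = n → p ∣ n := by
  classical
  have := finite_iso F
  have := Fintype.ofFinite F.iso
  obtain ⟨ψ, hψ⟩ := SplitGen.exists_cusp (split h hani hcomm) (one_lt_rad h hf' hef' hne)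
  refine ⟨ψ, ψ.2, fun U hU => sum_rad h (Core.isIrr_isClassFunction ψ.2) hψ hU, ?_⟩
  intro p hp hp2 a hap ha1 hσ n hn
  have ha0 : a ≠ 0 := by
    rintro rfl
    rw [zero_pow hp.ne_zero] at hap
    exact zero_ne_one hap
  obtain ⟨t, ht1, ht2, ht3⟩ := exists_torus h ha0
  rw [hσ] at ht2
  have haa : a ≠ a⁻¹ := by
    intro h1
    have h2 : a ^ 2 = 1 := by rw [sq]; nth_rewrite 2 [h1]; exact mul_inv_cancel₀ ha0
    have h3 : Nat.Coprime 2 p := (Nat.coprime_primes Nat.prime_two hp).2 (Ne.symm hp2)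
    have h4 : orderOf a ∣ 1 := by
      rw [← Nat.Coprime.gcd_eq_one h3]
      exact Nat.dvd_gcd (orderOf_dvd_of_pow_eq_one h2) (orderOf_dvd_of_pow_eq_one hap)
    exact ha1 (orderOf_eq_one_iff.1 (Nat.dvd_one.1 h4))
  have hai : a⁻¹ ≠ 1 := by rwa [Ne, inv_eq_one]
  have hpow : ∀ k : ℕ, ((t ^ k : F.iso) : V ≃ₗ[K] V) e = a ^ k • e ∧ ((t ^ k : F.iso) : V ≃ₗ[K] V) f = (a⁻¹) ^ k • f ∧
      ∀ x, ((t ^ k : F.iso) : V ≃ₗ[K] V) (j x) = j x := by
    intro k
    induction k with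
    | zero => simp
    | succ k ih =>
      have e1 : ∀ v, ((t ^ (k + 1) : F.iso) : V ≃ₗ[K] V) v = (t : V ≃ₗ[K] V) (((t ^ k : F.iso) : V ≃ₗ[K] V) v) := by
        intro v
        rw [pow_succ']
        rfl
      refine ⟨?_, ?_, fun x => ?_⟩
      · rw [e1, ih.1, map_smul, ht1, smul_smul, ← pow_succ]
      · rw [e1, ih.2.1, map_smul, ht2, smul_smul, ← pow_succ]
      · rw [e1, ih.2.2, ht3]
  refine SplitGen.prime_dvd (Core.isIrr_isCharacter ψ.2) hψ hp (t := t) ?_ ?_ ?_ hn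
  · have : Fact p.Prime := ⟨hp⟩
    refine orderOf_eq_prime ?_ ?_
    · obtain ⟨h1, h2, h3⟩ := hpow p
      refine iso_ext h ?_ ?_ fun x => ?_
      · rw [h1, hap, one_smul]; rfl
      · rw [h2, inv_pow, hap, inv_one, one_smul]; rfl
      · rw [h3]; rfl
    · intro h1
      rw [h1] at ht1
      have h2 : (a - 1) • e = 0 := by
        rw [sub_smul, one_smul, ← ht1]
        exact sub_self e
      rcases smul_eq_zero.1 h2 with h3 | h3
      · exact ha1 (sub_eq_zero.1 h3)
      · exact h.e0 h3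
  · intro u hu
    have h1 : (Submodule.span K {e}).map (F.iso.subtype t⁻¹ : V →ₗ[K] V) = Submodule.span K {e} := by
      have h2 : t • F.pt e h.e0 h.he = F.pt e h.e0 h.he := by
        rw [F.smul_pt, F.pt_eq_iff]
        exact ⟨a, ha0, ht1⟩
      have h3 : t⁻¹ • F.pt e h.e0 h.he = F.pt e h.e0 h.he := by
        rw [inv_smul_eq_iff]; exact h2.symm
      exact congrArg Subtype.val h3
    have h3 := rad_conj h1 hu
    rwa [inv_inv] at h3
  · intro u hu htu
    have hue : (u : V ≃ₗ[K] V) e = e := hu.1 e (Submodule.mem_span_singleton_self e)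
    -- `z = u f - f`
    obtain ⟨z, hz⟩ : ∃ z, z = (u : V ≃ₗ[K] V) f - f := ⟨_, rfl⟩
    have huf : (u : V ≃ₗ[K] V) f = f + z := by rw [hz]; abel
    have h1 : (t : V ≃ₗ[K] V) ((u : V ≃ₗ[K] V) f) = (u : V ≃ₗ[K] V) ((t : V ≃ₗ[K] V) f) := by
      have := congrArg (fun g : F.iso => (g : V ≃ₗ[K] V) f) htu
      exact this
    rw [ht2, map_smul, huf, map_add, ht2, smul_add] at h1
    have h2 : (t : V ≃ₗ[K] V) z = a⁻¹ • z := add_left_cancel h1
    have hze : F.B z e = 0 := by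
      rw [hz, F.B_sub_left]
      nth_rewrite 1 [← hue]
      rw [F.iso_B, sub_self]
    obtain ⟨x, hx⟩ := h.dec_e hze
    have h3 : F.B z f = 0 := by
      have h4 : (t : V ≃ₗ[K] V) z = (a * F.B z f) • e + j x := by
        rw [hx, map_add, map_smul, ht1, ht3, smul_smul, mul_comm a, ← hx]
      have h5 := congrArg (fun v => F.B v f) (h4.symm.trans h2)
      simp only [F.B_add_left, F.B_smul_left, h.hef, h.hjf, mul_one, add_zero] at h5
      have h6 : (a - a⁻¹) * F.B z f = 0 := by rw [sub_mul, h5, sub_self]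
      exact (mul_eq_zero.1 h6).resolve_left (sub_ne_zero.2 haa)
    rw [h3, zero_smul, zero_add] at hx
    rw [hx, ht3] at h2
    have h7 : (1 - a⁻¹) • j x = 0 := by rw [sub_smul, one_smul, ← h2, sub_self]
    have h8 : j x = 0 := (smul_eq_zero.1 h7).resolve_left (sub_ne_zero.2 (Ne.symm hai))
    rw [hx, h8, add_zero] at huf
    exact rad_torus h hu (c := 1) (by rw [huf, one_smul])

/-- **the Steinberg character** -/
theorem st_form [FiniteDimensional K V] [FiniteDimensional K X] [Finite V] (hani : ∀ x, F'.Sing x → x = 0)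
    (hcomm : ∀ a b : F'.iso, a * b = b * a) {f' : V} (hf' : F.Sing f') (hef' : F.B e f' = 1) (hne : f' ≠ f)
    {p : ℕ} [Fact p.Prime] [CharP K p] :
    ∃ (ψ : F.iso → ℂ) (m : ℕ), IsIrrCharacter _ ψ ∧ 0 < m ∧ ψ 1 = ((p ^ m : ℕ) : ℂ) ∧
      ∀ (z : F.iso) (a : K), (∀ v, (z : V ≃ₗ[K] V) v = a • v) → ψ z = ψ 1 := by
  classical
  have := finite_iso F
  have := Fintype.ofFinite F.iso
  obtain ⟨ψ, hψ, h1, h2⟩ := SplitGen.exists_st (split h hani hcomm)
  obtain ⟨m, hm⟩ := (IsPGroup.iff_card (p := p)).1 (rad_isPGroup h (p := p))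
  refine ⟨ψ, m, hψ, ?_, ?_, ?_⟩
  · rw [Nat.pos_iff_ne_zero]
    rintro rfl
    have h3 := one_lt_rad h hf' hef' hne
    rw [hm, pow_zero] at h3
    exact lt_irrefl _ h3
  · rw [h1, ← hm]
    rfl
  · intro z a hz
    refine h2 z ?_ ?_
    · refine MulAction.mem_stabilizer_iff.2 ?_
      rw [F.smul_pt, F.pt_eq_iff]
      refine ⟨a, ?_, hz e⟩
      rintro rfl
      have := hz e
      rw [zero_smul] at this
      exact h.e0 ((z : V ≃ₗ[K] V).map_eq_zero_iff.1 this)
    · rw [Subgroup.mem_center_iff]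
      intro g
      apply Subtype.ext
      ext v
      change (g : V ≃ₗ[K] V) ((z : V ≃ₗ[K] V) v) = (z : V ≃ₗ[K] V) ((g : V ≃ₗ[K] V) v)
      rw [hz, hz, map_smul]

end split

end Cfsg.Agent.H113.Two.SplitForm
end

-- part: H113/Two/HermData
section
prune_inst 0x1004401744000000000050032000084300000900000000080040440000980428900000006001000000080000000000003100010420000000a840000000100000000120081180011000000000288000002000000000000000000000000000000010000000
set_option linter.all false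
open scoped Cfsg.Agent.FastGrp

/-!
# The Hermitian forms: complements, hyperbolic pairs; linear characters of `F_{q²}ˣ` (helper113)
-/

set_option autoImplicit false
set_option linter.unusedSectionVars false
set_option linter.style.haveILetI false

open scoped ComplexConjugate
open Cfsg

namespace Cfsg.Agent.H113.Two.HermData

open Cfsg.Agent.OddOrderCharacters.Clifford Cfsg.Agent.Characters MulAction Module Cfsg.Agent.H53.HC
open Cfsg.Agent.H477.HC Cfsg.Agent.H477.HC.CForm Cfsg.Agent.H749.Two Cfsg.Agent.H113.Two.HcOne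
open Cfsg.Agent.H113.Two.SplitForm

universe u

variable (K : Type u) [Field K] [Finite K] {q : ℕ} (hq : Nat.card K = q ^ 2)

theorem herm_frame (k n : ℕ) : ∃ e f : Fin k → (Fin (k + (k + n)) → K),
    (∀ i l, (hermF K hq (k + (k + n))).B (e i) (e l) = 0) ∧ (∀ i l, (hermF K hq (k + (k + n))).B (f i) (f l) = 0) ∧
    (∀ i l, (hermF K hq (k + (k + n))).B (e i) (f l) = if i = l then 1 else 0) ∧
    (∀ x i, (hermF K hq (k + (k + n))).B (jherm K k n x) (e i) = 0) ∧
    (∀ x i, (hermF K hq (k + (k + n))).B (jherm K k n x) (f i) = 0) := by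
  classical
  have hq0 : q ≠ 0 := by have := two_le_of_card hq; omega
  obtain ⟨x, y, hx, hy, hxy⟩ := exists_norm_neg_one hq
  let b : K := powHom hq (1 + x * y ^ q)⁻¹
  have hb : b ^ q = (1 + x * y ^ q)⁻¹ := by
    rw [← powHom_apply hq, powHom_powHom]
  refine ⟨hv K k n 1 x, hv K k n b (b * y), fun i l => ?_, fun i l => ?_, fun i l => ?_, fun x i => ?_, fun x i => ?_⟩
  · rw [hermF_B, herm_hv hq0]
    split_ifs
    · rw [one_pow, one_mul, ← pow_succ', hx]
    · rfl
  · rw [hermF_B, herm_hv hq0]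
    split_ifs
    · have : b * b ^ q + b * y * (b * y) ^ q = b * b ^ q * (1 + y ^ (q + 1)) := by ring
      rw [this, hy, mul_zero]
    · rfl
  · rw [hermF_B, herm_hv hq0]
    split_ifs
    · have : 1 * b ^ q + x * (b * y) ^ q = b ^ q * (1 + x * y ^ q) := by ring
      rw [this, hb, inv_mul_cancel₀ hxy]
    · rfl
  · simp [hermForm, Fin.sum_univ_add, hv, hq0]
  · simp [hermForm, Fin.sum_univ_add, hv, hq0]

theorem jherm_B (k n : ℕ) (x y : Fin n → K) :
    (hermF K hq (k + (k + n))).B (jherm K k n x) (jherm K k n y) = (hermF K hq n).B x y := by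
  simp [hermForm, Fin.sum_univ_add]

theorem hermF_cmp (k n : ℕ) : ∃ W₀, W₀ ∈ (hermF K hq (k + (k + n))).Om k ∧
    Cmp (hermF K hq (k + (k + n))) (hermF K hq n) (jherm K k n) W₀ := by
  obtain ⟨e, f, h1, h2, h3, h4, h5⟩ := herm_frame K hq k n
  exact ⟨_, cmp_of_frame (F := hermF K hq (k + (k + n))) (F' := hermF K hq n) (j := jherm K k n) rfl h1 h2 h3
    (fun i => h1 i i) (jherm_B K hq k n) (fun x => jherm_B K hq k n x x) h4 h5 (by simp; ring)⟩

theorem hermF_hyp (n : ℕ) : ∃ e f f' : Fin (1 + (1 + n)) → K,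
    Hyp (hermF K hq (1 + (1 + n))) (hermF K hq n) e f (jherm K 1 n) ∧ (hermF K hq (1 + (1 + n))).Sing f' ∧
      (hermF K hq (1 + (1 + n))).B e f' = 1 ∧ f' ≠ f := by
  obtain ⟨e, f, h1, h2, h3, h4, h5⟩ := herm_frame K hq 1 n
  have h : Hyp (hermF K hq (1 + (1 + n))) (hermF K hq n) (e 0) (f 0) (jherm K 1 n) :=
    { he := ⟨h1 0 0, h1 0 0⟩
      hf := ⟨h2 0 0, h2 0 0⟩
      hef := by rw [h3, if_pos rfl]
      hjB := jherm_B K hq 1 n
      hjQ := fun x => jherm_B K hq 1 n x x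
      hje := fun x => h4 x 0
      hjf := fun x => h5 x 0
      dec := fun v hv hv' => (hermF K hq (1 + (1 + n))).frame_decomp (hermF K hq n) (jherm K 1 n) h1 h2 h3
        (jherm_B K hq 1 n) h4 h5 (by simp; ring) v (fun i => by rw [Subsingleton.elim i 0]; exact hv)
        (fun i => by rw [Subsingleton.elim i 0]; exact hv') }
  -- an element of trace zero
  obtain ⟨s, hs⟩ : ∃ s : K, s ^ q ≠ s := by
    classical
    by_contra hcon
    push Not at hcon
    have h2 := two_le_of_card hq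
    let _ := Fintype.ofFinite K
    have h3 : Fintype.card K ≤ (Polynomial.X ^ q - Polynomial.X : Polynomial K).natDegree := by
      have hne := FiniteField.X_pow_card_sub_X_ne_zero K (p := q) (by omega)
      have h4 : (Finset.univ : Finset K) ⊆ (Polynomial.X ^ q - Polynomial.X : Polynomial K).roots.toFinset := by
        intro t _
        rw [Multiset.mem_toFinset, Polynomial.mem_roots hne, Polynomial.IsRoot.def]
        simp only [Polynomial.eval_sub, Polynomial.eval_pow, Polynomial.eval_X]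
        rw [hcon t, sub_self]
      have h5 := Finset.card_le_card h4
      rw [Finset.card_univ] at h5
      exact h5.trans ((Multiset.toFinset_card_le _).trans (Polynomial.card_roots' _))
    rw [FiniteField.X_pow_card_sub_X_natDegree_eq K (by omega), ← Nat.card_eq_fintype_card, hq] at h3
    nlinarith
  have ht : (s - s ^ q) ^ q = -(s - s ^ q) := by
    have e1 : powHom hq (s ^ q) = s := by rw [← powHom_apply hq s, powHom_powHom]
    rw [← powHom_apply hq, map_sub, powHom_apply, e1]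
    ring
  have ht0 : s - s ^ q ≠ 0 := sub_ne_zero.2 (Ne.symm hs)
  refine ⟨e 0, f 0, f 0 + (s - s ^ q) • e 0, h, ?_, ?_, ?_⟩
  · have h6 : (hermF K hq (1 + (1 + n))).B (f 0 + (s - s ^ q) • e 0) (f 0 + (s - s ^ q) • e 0) = 0 := by
      rw [B_add_left, B_add_right, B_add_right, B_smul_left, B_smul_left, B_smul_right, B_smul_right, h1, h2, h3,
        if_pos rfl, h.hfe]
      change 0 + (s - s ^ q) ^ q * 1 + ((s - s ^ q) * 1 + (s - s ^ q) * ((s - s ^ q) ^ q * 0)) = 0
      rw [ht]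
      ring
    exact ⟨h6, h6⟩
  · rw [B_add_right, B_smul_right, h1, h3, if_pos rfl, mul_zero, add_zero]
  · intro h6
    have h7 : (s - s ^ q) • e 0 = 0 := by simpa using h6
    rcases smul_eq_zero.1 h7 with h8 | h8
    · exact ht0 h8
    · exact h.e0 h8

theorem hani {n : ℕ} (hn : n ≤ 1) (x : Fin n → K) (hx : (hermF K hq n).Sing x) : x = 0 := by
  rcases (show n = 0 ∨ n = 1 by omega) with rfl | rfl
  · exact Subsingleton.elim _ _
  · have h1 : x 0 * x 0 ^ q = 0 := by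
      have := hx.2
      simpa [hermForm] using this
    have h2 : x 0 = 0 := by
      rw [← pow_succ'] at h1
      exact pow_eq_zero_iff (by omega) |>.1 h1
    ext i
    rw [Subsingleton.elim i 0, h2]
    rfl

theorem hcomm {n : ℕ} (hn : n ≤ 1) (a b : (hermF K hq n).iso) : a * b = b * a := by
  apply Subtype.ext
  ext1 x
  change (a : (Fin n → K) ≃ₗ[K] (Fin n → K)) ((b : (Fin n → K) ≃ₗ[K] (Fin n → K)) x) =
    (b : (Fin n → K) ≃ₗ[K] (Fin n → K)) ((a : (Fin n → K) ≃ₗ[K] (Fin n → K)) x)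
  rcases (show n = 0 ∨ n = 1 by omega) with rfl | rfl
  · exact Subsingleton.elim _ _
  · have key : ∀ g : (Fin 1 → K) ≃ₗ[K] (Fin 1 → K), ∃ c : K, ∀ x, g x = c • x := by
      intro g
      refine ⟨g 1 0, fun x => ?_⟩
      have h1 : x = x 0 • (1 : Fin 1 → K) := by
        ext i
        rw [Subsingleton.elim i 0]
        simp
      ext i
      rw [Subsingleton.elim i 0]
      conv_lhs => rw [h1, map_smul]
      simp [mul_comm]
    obtain ⟨c, hc⟩ := key a
    obtain ⟨d, hd⟩ := key b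
    rw [hc, hd, hd, hc, smul_smul, smul_smul, mul_comm]

/-- `μ_{q+1}` -/
def mu (q : ℕ) : Subgroup Kˣ := (powMonoidHom (q + 1) : Kˣ →* Kˣ).ker

variable {K}

theorem mem_mu {a : Kˣ} : a ∈ mu K q ↔ a ^ (q + 1) = 1 := Iff.rfl

theorem exists_zeta (h4 : 4 ≤ q) (w : ℂˣ) : ∃ ζ : ℂˣ, ζ ^ (q - 1) = w ∧ ζ ^ (q + 1) ≠ 1 := by
  obtain ⟨z, hz⟩ := IsAlgClosed.exists_pow_nat_eq (w : ℂ) (n := q - 1) (by omega)
  have hz0 : z ≠ 0 := by
    rintro rfl
    rw [zero_pow (by omega)] at hz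
    exact w.ne_zero hz.symm
  have hz' : (Units.mk0 z hz0) ^ (q - 1) = w := Units.ext hz
  by_cases h1 : (Units.mk0 z hz0) ^ (q + 1) = 1
  · have hp := Complex.isPrimitiveRoot_exp (q - 1) (by omega)
    obtain ⟨l, hl⟩ := hp.isUnit (by omega)
    have hl1 : l ^ (q - 1) = 1 := Units.ext (by rw [Units.val_pow_eq_pow_val, hl]; exact hp.pow_eq_one)
    refine ⟨Units.mk0 z hz0 * l, by rw [mul_pow, hz', hl1, mul_one], ?_⟩
    rw [mul_pow, h1, one_mul]
    intro h2
    have h3 : l ^ 2 = 1 := by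
      have e1 : q + 1 = (q - 1) + 2 := by omega
      rw [e1, pow_add, hl1, one_mul] at h2
      exact h2
    have h5 : Complex.exp (2 * Real.pi * Complex.I / ((q - 1 : ℕ) : ℂ)) ^ 2 = 1 := by
      rw [← hl]
      have := congrArg Units.val h3
      simpa using this
    have h6 := (hp.pow_eq_one_iff_dvd 2).1 h5
    have := Nat.le_of_dvd (by norm_num) h6
    omega
  · exact ⟨_, hz', h1⟩

theorem exists_theta (h4 : 4 ≤ q) (ω : mu K q →* ℂˣ) : ∃ θ : Kˣ →* ℂˣ,
    (∀ a (ha : a ∈ mu K q), θ a * ω ⟨a, ha⟩ = 1) ∧ ∃ z : Kˣ, θ (z * Units.map (powHom hq : K →* K) z) ≠ 1 := by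
  classical
  obtain ⟨g, hg⟩ := IsCyclic.exists_generator (α := Kˣ)
  have hcard : orderOf g = q ^ 2 - 1 := by
    rw [orderOf_eq_card_of_forall_mem_zpowers hg, Nat.card_units, hq]
  have hq2 : q ^ 2 - 1 = (q - 1) * (q + 1) := by
    obtain ⟨t, rfl⟩ : ∃ t, q = t + 1 := ⟨q - 1, by omega⟩
    have : (t + 1) ^ 2 = t * (t + 2) + 1 := by ring
    rw [this]
    simp
  have hgm : g ^ (q - 1) ∈ mu K q := by
    rw [mem_mu, ← pow_mul, ← hq2, ← hcard, pow_orderOf_eq_one]
  obtain ⟨ζ, hζ1, hζ2⟩ := exists_zeta h4 (ω ⟨_, hgm⟩)⁻¹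
  have hζ : orderOf ζ ∣ orderOf g := by
    rw [hcard, hq2]
    apply orderOf_dvd_of_pow_eq_one
    rw [pow_mul, hζ1, inv_pow, ← map_pow]
    have : (⟨g ^ (q - 1), hgm⟩ : mu K q) ^ (q + 1) = 1 := Subtype.ext hgm
    rw [this, map_one, inv_one]
  let θ := monoidHomOfForallMemZpowers hg hζ
  have hθ : θ g = ζ := monoidHomOfForallMemZpowers_apply_gen hg hζ
  refine ⟨θ, fun a ha => ?_, g, ?_⟩
  · obtain ⟨m, hm⟩ := Subgroup.mem_zpowers_iff.1 (hg a)
    have h1 : (q - 1 : ℕ) ∣ m.natAbs := by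
      have h2 : g ^ (m * ((q + 1 : ℕ) : ℤ)) = 1 := by
        rw [zpow_mul, hm, zpow_natCast]
        exact ha
      have h3 := orderOf_dvd_iff_zpow_eq_one.2 h2
      rw [hcard, hq2] at h3
      push_cast at h3
      have h4 : ((q - 1 : ℕ) : ℤ) ∣ m := Int.dvd_of_mul_dvd_mul_right (by omega) h3
      exact Int.natCast_dvd.1 h4
    obtain ⟨k, hk⟩ := Int.natCast_dvd.2 h1
    have h2 : (⟨a, ha⟩ : mu K q) = (⟨g ^ (q - 1), hgm⟩ : mu K q) ^ k := by
      apply Subtype.ext
      change a = (g ^ (q - 1)) ^ k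
      rw [← hm, hk, zpow_mul, zpow_natCast]
    rw [h2, map_zpow, ← hm, map_zpow, hθ, hk, zpow_mul, zpow_natCast, hζ1, inv_zpow, inv_mul_cancel]
  · have h1 : g * Units.map (powHom hq : K →* K) g = g ^ (q + 1) := by
      apply Units.ext
      rw [Units.val_mul, Units.val_pow_eq_pow_val, pow_succ']
      rfl
    rw [h1, map_pow, hθ]
    exact hζ2

theorem exists_theta3 (h3 : 3 ≤ q) : ∃ θ : Kˣ →* ℂˣ, ∃ z : Kˣ, θ (z * Units.map (powHom hq : K →* K) z) ≠ 1 := by
  classical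
  obtain ⟨g, hg⟩ := IsCyclic.exists_generator (α := Kˣ)
  have hcard : orderOf g = q ^ 2 - 1 := by
    rw [orderOf_eq_card_of_forall_mem_zpowers hg, Nat.card_units, hq]
  have hq2 : q ^ 2 - 1 = (q - 1) * (q + 1) := by
    obtain ⟨t, rfl⟩ : ∃ t, q = t + 1 := ⟨q - 1, by omega⟩
    have : (t + 1) ^ 2 = t * (t + 2) + 1 := by ring
    rw [this]
    simp
  have h9 : 3 * 3 ≤ q * q := Nat.mul_le_mul h3 h3
  have hp := Complex.isPrimitiveRoot_exp (q ^ 2 - 1) (by rw [sq]; omega)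
  obtain ⟨l, hl⟩ := hp.isUnit (by rw [sq]; omega)
  have hl1 : orderOf l ∣ orderOf g := by
    rw [hcard]
    apply orderOf_dvd_of_pow_eq_one
    exact Units.ext (by rw [Units.val_pow_eq_pow_val, hl]; exact hp.pow_eq_one)
  let θ := monoidHomOfForallMemZpowers hg hl1
  have hθ : θ g = l := monoidHomOfForallMemZpowers_apply_gen hg hl1
  refine ⟨θ, g, ?_⟩
  have h1 : g * Units.map (powHom hq : K →* K) g = g ^ (q + 1) := by
    apply Units.ext
    rw [Units.val_mul, Units.val_pow_eq_pow_val, pow_succ']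
    rfl
  rw [h1, map_pow, hθ]
  intro h2
  have h5 : Complex.exp (2 * Real.pi * Complex.I / ((q ^ 2 - 1 : ℕ) : ℂ)) ^ (q + 1) = 1 := by
    rw [← hl]
    have := congrArg Units.val h2
    simpa using this
  have h6 := (hp.pow_eq_one_iff_dvd _).1 h5
  have h7 := Nat.le_of_dvd (by omega) h6
  rw [hq2] at h7
  have h8 : 2 * (q + 1) ≤ (q - 1) * (q + 1) := Nat.mul_le_mul_right _ (by omega)
  omega

end Cfsg.Agent.H113.Two.HermData
end

-- part: H113/Two/PsuChars
section
prune_inst 0x1007004014000000018050010003c02c2000490000b0000c0a0024006800c0020018621b0b00000000000c440380000010000000200000000000000011900808000000001000000200001000080000000000000000000000000000000000000000000000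
set_option linter.all false
open scoped Cfsg.Agent.FastGrp

-- part: H113/Two/Descent2
section
/-!
# From `GU_n(q)` to `PSU_n(q)`: the number of constituents is a product of primes dividing `n` (helper113)
-/

set_option autoImplicit false
set_option linter.unusedSectionVars false
set_option linter.style.haveILetI false

open scoped ComplexConjugate

namespace Cfsg.Agent.H113.Two.Descent2

open Cfsg Cfsg.Agent.LieClassical.HermBasic Cfsg.Agent.LieClassical.HermSiegel Cfsg.Agent.Characters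
open Cfsg.Agent.H477.HC Cfsg.Agent.H113.PSU.Descent
open Cfsg.Agent.H53.HC (sum_comp_hom)

universe u

/-- restriction to a subgroup which together with the centre generates the group -/
theorem isIrr_res {I : Type u} [Group I] [Finite I] (N Z : Subgroup I) (hZ : Z ≤ Subgroup.center I)
    (hNZ : ∀ g : I, ∃ x ∈ N, ∃ z ∈ Z, g = x * z) {θ : I → ℂ} (hθ : IsIrrCharacter I θ) :
    IsIrrCharacter N (θ ∘ N.subtype) := by
  classical
  letI : Fintype I := Fintype.ofFinite I
  letI : Fintype N := Fintype.ofFinite N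
  letI : Fintype Z := Fintype.ofFinite Z
  letI : Fintype (N × Z) := inferInstance
  have hcomm : ∀ (x : I) (z : Z), x * z = z * x := fun x z => Subgroup.mem_center_iff.1 (hZ z.2) x
  let μ : N × Z →* I :=
    { toFun := fun p => p.1 * p.2
      map_one' := by simp only [_root_.Prod.fst_one, _root_.OneMemClass.coe_one, _root_.Prod.snd_one, _root_.mul_one]
      map_mul' := fun p p' => by
        change (p.1 : I) * p'.1 * (p.2 * p'.2) = (p.1 : I) * p.2 * (p'.1 * p'.2)
        rw [mul_assoc, mul_assoc, ← mul_assoc (p'.1 : I), hcomm p'.1 p.2, mul_assoc] }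
  have hμ : Function.Surjective μ := by
    intro g
    obtain ⟨x, hx, z, hz, rfl⟩ := hNZ g
    exact ⟨(⟨x, hx⟩, ⟨z, hz⟩), rfl⟩
  have hz : ∀ (x : I) (z : Z), θ (x * z) * conj (θ (x * z)) = θ x * conj (θ x) := by
    intro x z
    obtain ⟨l, hl⟩ := central_mul hθ (hZ z.2)
    -- `|l| = 1`
    have hpow : ∀ (k : ℕ) (y : I), θ (y * (z : I) ^ k) = l ^ k * θ y := by
      intro k
      induction k with
      | zero => intro y; rw [pow_zero, mul_one, pow_zero, one_mul]
      | succ k ih =>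
        intro y
        rw [pow_succ, ← mul_assoc, hl, ih, pow_succ]
        ring
    have h1 := hpow (orderOf (z : I)) 1
    rw [pow_orderOf_eq_one, mul_one] at h1
    have h2 : l ^ orderOf (z : I) = 1 := by
      have h3 : (l ^ orderOf (z : I) - 1) * θ 1 = 0 := by rw [sub_mul, ← h1, one_mul, sub_self]
      exact sub_eq_zero.1 ((mul_eq_zero.1 h3).resolve_right (Core.isIrr_apply_one_ne_zero hθ))
    have h3 : ‖l‖ = 1 := by
      have h4 : ‖l‖ ^ orderOf (z : I) = 1 := by rw [← norm_pow, h2, norm_one]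
      exact (pow_eq_one_iff_of_nonneg (norm_nonneg l) (orderOf_pos (z : I)).ne').1 h4
    have h4 : l * conj l = 1 := by
      rw [Complex.mul_conj, Complex.normSq_eq_norm_sq, h3]
      norm_num
    rw [hl, map_mul]
    calc l * θ x * (conj l * conj (θ x)) = (l * conj l) * (θ x * conj (θ x)) := by ring
      _ = _ := by rw [h4, one_mul]
  have h1 := sum_comp_hom μ hμ (fun g => θ g * conj (θ g))
  have h2 : ∑ p : N × Z, θ (μ p) * conj (θ (μ p)) = (Nat.card Z : ℂ) * ∑ x : N, θ x * conj (θ x) := by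
    rw [Fintype.sum_prod_type, Finset.mul_sum]
    refine Finset.sum_congr rfl fun x _ => ?_
    have h3 : ∀ z : Z, θ (μ (x, z)) * conj (θ (μ (x, z))) = θ x * conj (θ x) := fun z => hz x z
    rw [Finset.sum_congr rfl fun z _ => h3 z, Finset.sum_const, Finset.card_univ, nsmul_eq_mul,
      Nat.card_eq_fintype_card]
  have h3 := Core.classInner_irr_self hθ
  rw [Core.classInner_def] at h3
  have hI : (Nat.card I : ℂ) ≠ 0 := Core.card_ne_zero_complex
  have hN : (Nat.card N : ℂ) ≠ 0 := Core.card_ne_zero_complex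
  have hZ0 : (Nat.card Z : ℂ) ≠ 0 := Core.card_ne_zero_complex
  have h4 : ∑ g : I, θ g * conj (θ g) = Nat.card I := by
    have := congrArg ((Nat.card I : ℂ) * ·) h3
    simpa only [mul_inv_cancel_left₀ hI, _root_.Nat.card_eq_fintype_card, _root_.ne_eq, _root_.Nat.cast_eq_zero, _root_.Fintype.card_ne_zero, _root_.not_false_eq_true, _root_.mul_inv_cancel_left₀, _root_.mul_one] using this
  have h5 : (Nat.card N : ℂ) * Nat.card Z = Nat.card μ.ker * Nat.card I := by
    have h6 : Nat.card (N × Z) = Nat.card μ.ker * Nat.card I := by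
      rw [Subgroup.card_eq_card_quotient_mul_card_subgroup μ.ker, mul_comm]
      congr 1
      exact Nat.card_congr (QuotientGroup.quotientKerEquivOfSurjective μ hμ).toEquiv
    rw [Nat.card_prod] at h6
    exact_mod_cast h6
  change ∑ p : N × Z, θ (μ p) * conj (θ (μ p)) = _ at h1
  rw [h2, h4, ← h5] at h1
  have h6 : ∑ x : N, θ x * conj (θ x) = Nat.card N := by
    apply mul_left_cancel₀ hZ0
    rw [h1]; ring
  have h7 : classInner (θ ∘ N.subtype) (θ ∘ N.subtype) = 1 := by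
    rw [Core.classInner_def]
    change (Nat.card N : ℂ)⁻¹ * ∑ x : N, θ x * conj (θ x) = 1
    rw [h6, inv_mul_cancel₀ hN]
  exact Core.isIrr_of_classInner_self (Core.isCharacter_comp N.subtype (Core.isIrr_isCharacter hθ)) h7

variable {F : Type u} [Field F] [Fintype F] {q n : ℕ}

/-- the scalar with parameter `c` -/
theorem exists_scalar (c : F) (hc : c ^ (q + 1) = 1) :
    ∃ z : GU n F q, ((z : GL (Fin n) F) : Matrix (Fin n) (Fin n) F) = Matrix.diagonal fun _ => c :=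
  ⟨Cfsg.Agent.ClassicalGeometry.GUBasic.guDiag q (fun _ => c) (fun _ => hc),
    Cfsg.Agent.ClassicalGeometry.GUBasic.coe_guDiag _ _ _⟩

theorem scalar_center {z : GU n F q} {c : F}
    (hz : ((z : GL (Fin n) F) : Matrix (Fin n) (Fin n) F) = Matrix.diagonal fun _ => c) :
    z ∈ Subgroup.center (GU n F q) := by
  rw [Subgroup.mem_center_iff]
  intro g
  apply Subtype.ext
  apply Units.ext
  change ((g : GL (Fin n) F) : Matrix (Fin n) (Fin n) F) * ((z : GL (Fin n) F) : Matrix (Fin n) (Fin n) F) =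
    ((z : GL (Fin n) F) : Matrix (Fin n) (Fin n) F) * ((g : GL (Fin n) F) : Matrix (Fin n) (Fin n) F)
  rw [hz]
  ext i j
  rw [Matrix.mul_diagonal, Matrix.diagonal_mul, mul_comm]

/-- `g ^ n` is in `SU Z` -/
theorem pow_mem (hF : Fintype.card F = q ^ 2) (g : GU n F q) : g ^ n ∈ NN n F q ⊔ Subgroup.center (GU n F q) := by
  obtain ⟨c, hc⟩ : ∃ c, c = ((g : GL (Fin n) F) : Matrix (Fin n) (Fin n) F).det := ⟨_, rfl⟩
  have hcq : c ^ (q + 1) = 1 := by
    rw [hc]
    exact Cfsg.Agent.ClassicalGeometry.GUBasic.det_pow hF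
      ((Cfsg.Agent.ClassicalGeometry.GUBasic.mem_GU_iff _).1 g.2)
  obtain ⟨z, hz⟩ := exists_scalar (n := n) c hcq
  have h1 : g ^ n * z⁻¹ ∈ NN n F q := by
    change Matrix.GeneralLinearGroup.det (((g ^ n * z⁻¹ : GU n F q) : GL (Fin n) F)) = 1
    rw [Subgroup.coe_mul, Subgroup.coe_pow, Subgroup.coe_inv, map_mul, map_pow, map_inv, mul_inv_eq_one]
    apply Units.ext
    rw [Units.val_pow_eq_pow_val, Matrix.GeneralLinearGroup.val_det_apply, Matrix.GeneralLinearGroup.val_det_apply, hz,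
      ← hc, Matrix.det_diagonal]
    simp only [_root_.Finset.prod_const, _root_.Finset.card_univ, _root_.Fintype.card_fin]
  have h2 : g ^ n = (g ^ n * z⁻¹) * z := by group
  rw [h2]
  exact Subgroup.mul_mem _ (Subgroup.mem_sup_left h1) (Subgroup.mem_sup_right (scalar_center hz))

/-- **descent to `PSU`** -/
theorem exists_psu' (hF : Fintype.card F = q ^ 2) (hn : 3 ≤ n) {χ : GU n F q → ℂ} (hχ : IsIrrCharacter _ χ) {d : ℕ}
    (hd : χ 1 = d) (hz : ∀ (z : GU n F q) (c : F), z ∈ NN n F q → c * c ^ q = 1 →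
      (∀ v, ((z : GL (Fin n) F) : Matrix (Fin n) (Fin n) F).mulVec v = c • v) → χ z = χ 1) :
    ∃ (η : PSU n F q → ℂ) (e t : ℕ), IsIrrCharacter _ η ∧ η 1 = e ∧ 0 < e ∧ e * t = d ∧ t ∣ q + 1 ∧
      ∀ r : ℕ, r.Prime → r ∣ t → r ∣ n := by
  classical
  let N := NN n F q ⊔ Subgroup.center (GU n F q)
  have hNle : NN n F q ≤ N := le_sup_left
  have : N.Normal := Subgroup.sup_normal _ _
  obtain ⟨θ, e, hθ, he, h3, h4, h5, h6⟩ := down_constituent N hχ hd
  -- restriction to `SU`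
  have hdec : ∀ g : N, ∃ x ∈ (NN n F q).subgroupOf N, ∃ z ∈ (Subgroup.center (GU n F q)).subgroupOf N, g = x * z := by
    rintro ⟨g, hg⟩
    obtain ⟨x, hx, z, hz, rfl⟩ := Subgroup.mem_sup_of_normal_left.1 hg
    exact ⟨⟨x, hNle hx⟩, Subgroup.mem_subgroupOf.2 hx, ⟨z, Subgroup.mem_sup_right hz⟩, Subgroup.mem_subgroupOf.2 hz, rfl⟩
  have hcen : (Subgroup.center (GU n F q)).subgroupOf N ≤ Subgroup.center N := by
    intro z hz
    rw [Subgroup.mem_center_iff]
    intro g
    exact Subtype.ext (Subgroup.mem_center_iff.1 (Subgroup.mem_subgroupOf.1 hz) g)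
  have hres := isIrr_res _ _ hcen hdec hθ
  let E : SU n F q ≃* (NN n F q).subgroupOf N := (eSU n F q).trans (Subgroup.subgroupOfEquivOfLe hNle).symm
  have hE : ∀ g, (((E g : (NN n F q).subgroupOf N) : N) : GU n F q) = eSU n F q g := fun g => rfl
  have hθ' : IsIrrCharacter (SU n F q) ((θ ∘ ((NN n F q).subgroupOf N).subtype) ∘ E.toMonoidHom) :=
    Core.isIrr_comp E.toMonoidHom E.surjective hres
  obtain ⟨η, hη, hη'⟩ := exists_quot (Subgroup.center (SU n F q)) hθ' (fun z hzc => by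
    obtain ⟨c, hc, hcq, hc'⟩ := Cfsg.Agent.ClassicalGeometry.PSUAutBasic.exists_scalar_of_mem_center hF hn hzc
    change θ (E z : N) = θ (E 1 : N)
    rw [map_one]
    have hsc : ∀ v, ((((E z : (NN n F q).subgroupOf N) : N) : GU n F q) : GL (Fin n) F).1.mulVec v = c • v := by
      intro v
      rw [hE]
      change ((((eSU n F q z : NN n F q) : GU n F q) : GL (Fin n) F) : Matrix (Fin n) (Fin n) F).mulVec v = _
      rw [eSU_val, hc']
    refine h6 _ ?_ (hz _ c ?_ hcq hsc)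
    · rw [Subgroup.mem_center_iff]
      intro g
      apply Subtype.ext
      apply Subtype.ext
      apply Units.ext
      change ((g : GU n F q) : GL (Fin n) F).1 * (((E z : (NN n F q).subgroupOf N) : N) : GU n F q).1.1 =
        (((E z : (NN n F q).subgroupOf N) : N) : GU n F q).1.1 * ((g : GU n F q) : GL (Fin n) F).1
      apply Matrix.toLin'.injective
      refine LinearMap.ext fun v => ?_
      rw [Matrix.toLin'_mul, Matrix.toLin'_mul]
      simp only [LinearMap.comp_apply, Matrix.toLin'_apply]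
      rw [hsc, Matrix.mulVec_smul, hsc]
    · exact (eSU n F q z).2)
  refine ⟨η, e, d / e, hη, ?_, h5, Nat.mul_div_cancel' h3, ?_, fun r hr hrt => ?_⟩
  · rw [← he]
    have := hη' 1
    rw [QuotientGroup.mk_one] at this
    rw [this]
    change θ (E 1 : N) = θ 1
    rw [map_one]
    rfl
  · have h7 := Subgroup.index_dvd_of_le hNle
    rw [index_NN hF (by omega)] at h7
    exact h4.trans h7
  · have : Fact r.Prime := ⟨hr⟩
    have h7 : r ∣ Nat.card (GU n F q ⧸ N) := hrt.trans h4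
    obtain ⟨x, hx⟩ := exists_prime_orderOf_dvd_card' r h7
    obtain ⟨g, rfl⟩ := QuotientGroup.mk_surjective x
    rw [← hx]
    apply orderOf_dvd_of_pow_eq_one
    rw [← QuotientGroup.mk_pow, QuotientGroup.eq_one_iff]
    exact pow_mem hF g

end Cfsg.Agent.H113.Two.Descent2
end

-- part: H113/Two/PsuChars
section
/-!
# Characters of `PSU_n(q)` from Harish-Chandra induction (helper113)

`exLevi` : `dg k / t`; `exPair` : `dg k / t` and `dg k p^m / t'`, `n - 2 k = 2, 3`;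
`exOne` : `|Om 1| / t`; `exCusp` : `|Om 1| d / t`, `d` the degree of a cuspidal character of `GU_{n-2}(q)`, `n = 4, 5`.
-/

set_option autoImplicit false
set_option linter.unusedSectionVars false
set_option linter.style.haveILetI false

open scoped ComplexConjugate
open Cfsg

namespace Cfsg.Agent.H113.Two.PsuChars

open Cfsg.Agent.Characters MulAction Module Cfsg.Agent.H53.HC
open Cfsg.Agent.H477.HC Cfsg.Agent.H477.HC.CForm Cfsg.Agent.H749.Two Cfsg.Agent.H113.Two.HcOne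
open Cfsg.Agent.H113.Two.SplitForm Cfsg.Agent.H113.Two.HermData Cfsg.Agent.H113.Two.Descent2
open Cfsg.Agent.H113.PSU.Descent Cfsg.Agent.H113.PSU.Facts

universe u

variable {F : Type u} [Field F] [Fintype F] {q n : ℕ}

/-- descent -/
theorem to_psu (hF : Fintype.card F = q ^ 2) (hq : Nat.card F = q ^ 2) (hn : 3 ≤ n)
    {χ : (hermF F hq n).iso → ℂ} (hχ : IsIrrCharacter _ χ) {d : ℕ} (hd : χ 1 = d)
    (hz : ∀ (z : (hermF F hq n).iso) (a : Fˣ), a ∈ mu F q → a ^ n = 1 →
      (∀ v, (z : (Fin n → F) ≃ₗ[F] (Fin n → F)) v = (a : F) • v) → χ z = χ 1) :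
    ∃ (φ : IrrCharacter (PSU n F q)) (t : ℕ), charDegree (φ : PSU n F q → ℂ) * t = d ∧
      0 < charDegree (φ : PSU n F q → ℂ) ∧ t ∣ q + 1 ∧ ∀ r : ℕ, r.Prime → r ∣ t → r ∣ n := by
  classical
  obtain ⟨η, e, t, h1, h2, h3, h4, h5, h6⟩ := exists_psu' hF hn (χ := χ ∘ (isoGU hq n).toMonoidHom)
    (Core.isIrr_comp (isoGU hq n).toMonoidHom (isoGU hq n).surjective hχ) (d := d)
    (by
      change χ (isoGU hq n 1) = d
      rw [map_one, hd])
    (fun z c hzN hc hz' => by
      change χ (isoGU hq n z) = χ (isoGU hq n 1)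
      rw [map_one]
      have hc0 : c ≠ 0 := by rintro rfl; rw [zero_mul] at hc; exact zero_ne_one hc
      refine hz _ (Units.mk0 c hc0) ?_ ?_ fun v => ?_
      · rw [mem_mu]
        apply Units.ext
        rw [Units.val_pow_eq_pow_val, Units.val_mk0, Units.val_one, pow_succ', hc]
      · have h7 : ((z : GL (Fin n) F) : Matrix (Fin n) (Fin n) F) = Matrix.diagonal fun _ => c := by
          apply Matrix.toLin'.injective
          refine LinearMap.ext fun v => ?_
          rw [Matrix.toLin'_apply, Matrix.toLin'_apply, hz']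
          ext i
          rw [Matrix.mulVec_diagonal]
          rfl
        have h8 : ((z : GL (Fin n) F) : Matrix (Fin n) (Fin n) F).det = 1 := by
          have h9 : Matrix.GeneralLinearGroup.det (z : GL (Fin n) F) = 1 := hzN
          have := congrArg Units.val h9
          exact this
        rw [h7, Matrix.det_diagonal] at h8
        apply Units.ext
        simpa only [_root_.Units.val_pow_eq_pow_val, _root_.Units.val_mk0, _root_.Units.val_one, _root_.Finset.prod_const, _root_.Finset.card_univ, _root_.Fintype.card_fin] using h8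
      · rw [isoGU_apply, hz' v, Units.val_mk0])
  have he : charDegree η = e := H670.PSing.charDegree_eq_of h2
  refine ⟨⟨η, h1⟩, t, ?_, ?_, h5, h6⟩
  · change charDegree η * t = d
    rw [he, h4]
  · change 0 < charDegree η
    rw [he]; exact h3

/-- **the Levi characters** -/
theorem exLevi (hF : Fintype.card F = q ^ 2) (hq : Nat.card F = q ^ 2) {k n' : ℕ} (hk : 2 ≤ k) (hn : n = k + (k + n')) :
    ∃ (φ : IrrCharacter (PSU n F q)) (t : ℕ), charDegree (φ : PSU n F q → ℂ) * t = dg (hermF F hq n) k ∧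
      0 < charDegree (φ : PSU n F q → ℂ) ∧ t ∣ q + 1 ∧ ∀ r : ℕ, r.Prime → r ∣ t → r ∣ n := by
  subst hn
  obtain ⟨c, hc⟩ := hasCusU F q hq k hk
  obtain ⟨W₀, hW₀, -⟩ := hermF_cmp F hq k n'
  obtain ⟨χ, hχ, hχ1, hχz⟩ := exists_char (hermF F hq (k + (k + n'))) hW₀ (Z := fun z => z ^ (q + 1) = 1) (c := c) hc
  exact to_psu hF hq (by omega) hχ hχ1 fun z a ha _ hz => hχz z a ha hz

/-- **the pair** -/
theorem exPair (hF : Fintype.card F = q ^ 2) (hq : Nat.card F = q ^ 2) {p : ℕ} [Fact p.Prime] [CharP F p] {k l : ℕ}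
    (hk : 2 ≤ k) (hl : l ≤ 1) (hn : n = k + (k + (1 + (1 + l)))) :
    ∃ (φ ψ : IrrCharacter (PSU n F q)) (t t' m : ℕ),
      charDegree (φ : PSU n F q → ℂ) * t = dg (hermF F hq n) k ∧ t ∣ q + 1 ∧
      charDegree (ψ : PSU n F q → ℂ) * t' = dg (hermF F hq n) k * p ^ m ∧ t' ∣ q + 1 ∧ 0 < m ∧
      0 < charDegree (φ : PSU n F q → ℂ) := by
  subst hn
  obtain ⟨c, hc⟩ := hasCusU F q hq k hk
  obtain ⟨W₀, hW₀, hcmp⟩ := hermF_cmp F hq k (1 + (1 + l))
  have hW : ∀ W' ∈ (hermF F hq (k + (k + (1 + (1 + l))))).Om k,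
      W₀ ≤ (hermF F hq (k + (k + (1 + (1 + l))))).perp W' → W₀ ⊓ W' = ⊥ → False :=
    no_disj (m := k + 1) (fun W hW => by
      have := two_finrank_le hW
      rw [finrank_fin_fun] at this
      omega) (by omega) hW₀
  obtain ⟨e, f, f', hh, hf', hef', hne⟩ := hermF_hyp F hq l
  obtain ⟨ψ₀, m, hψ₀, hm, hψ1, hψz⟩ := st_form hh (hani F hq hl) (hcomm F hq hl) hf' hef' hne (p := p)
  obtain ⟨φ, t, h1, h2, h3, -⟩ := exLevi (n := k + (k + (1 + (1 + l)))) hF hq hk rfl
  obtain ⟨χ, hχ, hχ1, hχz⟩ := exists_hc hcmp hc hW₀ hψ₀ hW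
  obtain ⟨ψ, t', h1', h2', h3', -⟩ := to_psu (d := dg (hermF F hq (k + (k + (1 + (1 + l))))) k * p ^ m) hF hq (by omega) hχ
    (by rw [hχ1, hψ1]; push_cast; ring) fun z a ha _ hz => hχz z a hz fun z' hz' => by
      rw [hc.scal a ha, hψz z' a hz']
  exact ⟨φ, ψ, t, t', m, h1, h3, h1', h3', hm, h2⟩

/-- **`D_1`** -/
theorem exOne (hF : Fintype.card F = q ^ 2) (hq : Nat.card F = q ^ 2) {l : ℕ} (hl : 1 ≤ l) (hn : n = 1 + (1 + l))
    {θ : Fˣ →* ℂˣ} (hθ : ∃ z : Fˣ, θ (z * Units.map (powHom hq : F →* F) z) ≠ 1)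
    (hθ1 : ∀ a ∈ mu F q, a ^ n = 1 → θ a = 1) :
    ∃ (φ : IrrCharacter (PSU n F q)) (t : ℕ), charDegree (φ : PSU n F q → ℂ) * t = Nat.card ((hermF F hq n).Om 1) ∧
      0 < charDegree (φ : PSU n F q → ℂ) ∧ t ∣ q + 1 ∧ ∀ r : ℕ, r.Prime → r ∣ t → r ∣ n := by
  subst hn
  obtain ⟨W₀, hW₀, hcmp⟩ := hermF_cmp F hq 1 l
  obtain ⟨χ, hχ, hχ1, hχz⟩ := exists_one hW₀ (θ := θ) hθ
  exact to_psu hF hq (by omega) hχ hχ1 fun z a ha ha' hz => hχz z a hz (hθ1 a ha ha')

/-- the scalars of the isometry group -/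
def scal (F : Type u) [Field F] [Finite F] {q : ℕ} (hq : Nat.card F = q ^ 2) (n : ℕ) : mu F q →* (hermF F hq n).iso where
  toFun a := ⟨LinearEquiv.smulOfUnit (a : Fˣ), by
    have ha : ((a : Fˣ) : F) * ((a : Fˣ) : F) ^ q = 1 := by
      have := a.2
      rw [mem_mu] at this
      have h2 := congrArg Units.val this
      rw [← pow_succ', ← Units.val_pow_eq_pow_val, h2]
      rfl
    refine ⟨fun u v => ?_, fun v => ?_⟩
    · change (hermF F hq n).B (((a : Fˣ) : F) • u) (((a : Fˣ) : F) • v) = _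
      rw [B_smul_left, B_smul_right]
      change ((a : Fˣ) : F) * (((a : Fˣ) : F) ^ q * _) = _
      rw [← mul_assoc, ha, one_mul]
    · change (hermF F hq n).B (((a : Fˣ) : F) • v) (((a : Fˣ) : F) • v) = (hermF F hq n).B v v
      rw [B_smul_left, B_smul_right]
      change ((a : Fˣ) : F) * (((a : Fˣ) : F) ^ q * _) = _
      rw [← mul_assoc, ha, one_mul]⟩
  map_one' := by
    apply Subtype.ext
    ext1 v
    change ((1 : Fˣ) : F) • v = v
    rw [Units.val_one, one_smul]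
  map_mul' a b := by
    apply Subtype.ext
    ext1 v
    change (((a : Fˣ) * (b : Fˣ) : Fˣ) : F) • v = ((a : Fˣ) : F) • ((b : Fˣ) : F) • v
    rw [Units.val_mul, mul_smul]

theorem scal_apply [Finite F] {q : ℕ} (hq : Nat.card F = q ^ 2) (n : ℕ) (a : mu F q) (v : Fin n → F) :
    ((scal F hq n a : (hermF F hq n).iso) : (Fin n → F) ≃ₗ[F] (Fin n → F)) v = ((a : Fˣ) : F) • v := rfl

/-- **`D_1 ⊗ ψ₀`** -/
theorem exCusp (hF : Fintype.card F = q ^ 2) (hq : Nat.card F = q ^ 2) (h4 : 4 ≤ q) {l : ℕ} (hl : l ≤ 1)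
    (hn : n = 1 + (1 + (1 + (1 + l)))) :
    ∃ (φ : IrrCharacter (PSU n F q)) (t d : ℕ),
      charDegree (φ : PSU n F q → ℂ) * t = Nat.card ((hermF F hq n).Om 1) * d ∧
      0 < charDegree (φ : PSU n F q → ℂ) ∧ t ∣ q + 1 ∧ (∀ r : ℕ, r.Prime → r ∣ t → r ∣ n) ∧
      ∀ r : ℕ, r.Prime → r ≠ 2 → r ∣ q - 1 → r ∣ d := by
  classical
  subst hn
  obtain ⟨e, f, f', hh, hf', hef', hne⟩ := hermF_hyp F hq l
  obtain ⟨ψ₀, hψ₀, hψsum, hψp⟩ := cusp_form hh (hani F hq hl) (hcomm F hq hl) hf' hef' hne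
  obtain ⟨W₀, hW₀, hcmp⟩ := hermF_cmp F hq 1 (1 + (1 + l))
  obtain ⟨d, hd0, hd⟩ := Core.isIrr_apply_one hψ₀
  -- the central character
  have := finite_iso (hermF F hq (1 + (1 + l)))
  have hcen : ∀ a : mu F q, scal F hq (1 + (1 + l)) a ∈ Subgroup.center (hermF F hq (1 + (1 + l))).iso := by
    intro a
    rw [Subgroup.mem_center_iff]
    intro g
    apply Subtype.ext
    refine LinearEquiv.ext fun v => ?_
    exact map_smul g.1 ((a : Fˣ) : F) v
  have hex : ∀ a : mu F q, ∃ x : ℂ, ∀ g, ψ₀ (g * scal F hq (1 + (1 + l)) a) = x * ψ₀ g := fun a =>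
    central_mul hψ₀ (hcen a)
  choose ω hω using hex
  have hψ1 := Core.isIrr_apply_one_ne_zero hψ₀
  have hω1 : ω 1 = 1 := by
    have h1 := hω 1 1
    rw [map_one, mul_one] at h1
    have h2 : (ω 1 - 1) * ψ₀ 1 = 0 := by rw [sub_mul, ← h1, one_mul, sub_self]
    exact sub_eq_zero.1 ((mul_eq_zero.1 h2).resolve_right hψ1)
  have hωm : ∀ a b, ω (a * b) = ω a * ω b := by
    intro a b
    have h1 := hω (a * b) 1
    rw [map_mul, ← mul_assoc, hω b, hω a] at h1
    have h2 : (ω (a * b) - ω a * ω b) * ψ₀ 1 = 0 := by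
      rw [sub_mul, ← h1]; ring
    exact sub_eq_zero.1 ((mul_eq_zero.1 h2).resolve_right hψ1)
  let ω₀ : mu F q →* ℂ := { toFun := ω, map_one' := hω1, map_mul' := hωm }
  let ω' : mu F q →* ℂˣ := ω₀.toHomUnits
  have hω' : ∀ a, ((ω' a : ℂˣ) : ℂ) = ω a := fun a => rfl
  obtain ⟨θ, hθ1, hθ⟩ := exists_theta hq h4 ω'
  obtain ⟨χ, hχ, hχ1, hχz⟩ := exists_one_cusp hcmp hW₀ (θ := θ) hθ hψ₀ hψsum
  obtain ⟨φ, t, h1, h2, h3, h5⟩ := to_psu (d := Nat.card ((hermF F hq (1 + (1 + (1 + (1 + l))))).Om 1) * d) hF hq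
    (by omega) hχ (by rw [hχ1, hd]; push_cast; ring) fun z a ha _ hz => hχz z a hz fun z' hz' => by
      have h6 : z' = 1 * scal F hq (1 + (1 + l)) ⟨a, ha⟩ := by
        rw [one_mul]
        apply Subtype.ext
        refine LinearEquiv.ext fun v => ?_
        rw [hz', scal_apply]
      rw [h6, hω, ← hω', ← mul_assoc, ← Units.val_mul, hθ1 a ha, Units.val_one, one_mul]
  refine ⟨φ, t, d, h1, h2, h3, h5, fun r hr hr2 hrq => ?_⟩
  -- an element of order `r`
  have hq2 : 2 ≤ q := by omega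
  have : Fact r.Prime := ⟨hr⟩
  have h6 : r ∣ Nat.card Fˣ := by
    rw [Nat.card_units, hq, Cfsg.Agent.H113.PSU.Facts.sq_sub (q := q) (by omega)]
    exact hrq.mul_right _
  obtain ⟨x, hx⟩ := exists_prime_orderOf_dvd_card' r h6
  have hxr : x ^ r = 1 := by rw [← hx, pow_orderOf_eq_one]
  refine hψp r hr hr2 (x : F) ?_ ?_ ?_ d hd
  · rw [← Units.val_pow_eq_pow_val, hxr, Units.val_one]
  · intro h7
    have h8 : x = 1 := Units.ext h7
    rw [h8, orderOf_one] at hx
    exact hr.one_lt.ne hx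
  · change (x : F) ^ q = x
    obtain ⟨s, hs⟩ := hrq
    have h7 : x ^ q = x := by
      have h8 : q = r * s + 1 := by omega
      rw [h8, pow_succ, pow_mul, hxr, one_pow, one_mul]
    rw [← Units.val_pow_eq_pow_val, h7]

end Cfsg.Agent.H113.Two.PsuChars
end
end
end
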