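import Cfsg.Agent.H321.Dl.PslMany
import Cfsg.Agent.H596.OneFacts
import Cfsg.Agent.H677.DG.Tri42
import Cfsg.Agent.H251.Small.U5
import Cfsg.Agent.H113.Two.PsuChars
import Cfsg.Agent.Characters.Core
import Cfsg.Agent.H477.HC.Arith_m3
import Cfsg.Agent.H113.PSU.Main
import Cfsg.Agent.Prune
set_option linter.all false

section
prune_inst 0x7ffffffcfbbf7fffffff7e7ffeddfffe33c7cfffffdffb43ffecefdf8fdf939e39edffad1de070ff0ed6e63638b97853fb7eeeffe36fdc7ffffdfff45ffbee5ff7ffbd2d51dfbdb4dffc6fff9bf07fce7f3fffffffffdfffffffffffffffffbeffffffffffff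

-- part: H113/Two/PsuSmall
section
prune_inst 0x3044000000000000001220000000000000000000800021000302020000200000280008800500000c000000000000000000c00000000000000000000000000029000200000000200000001000000000000000000000000000000000000000000000000
set_option linter.all false
open scoped Cfsg.Agent.FastGrp

/-!
# Two irreducible characters of different degrees divisible by `5`: `PSU_4(2)`, `PSU_4(3)`, `PSU_5(2)` (helper113)
-/

set_option autoImplicit false
set_option linter.style.haveILetI false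

open Cfsg

namespace Cfsg.Agent.H113.Two.PsuSmall

open Cfsg.Agent Cfsg.Agent.Characters.Core Cfsg.Agent.H596.OneFacts Cfsg.Agent.H113.OB
open Cfsg.Agent.SmallSimple.LocalData Cfsg.Agent.SmallSimple.DegreeData Cfsg.Agent.H424.BlockTools
  Cfsg.Agent.H424.BlockTools2 Subgroup

universe u

theorem two_of_mem {p : ℕ} {S : Type u} [Group S] {a b : ℕ} (ha : a ∈ charDegrees S) (hb : b ∈ charDegrees S)
    (hpa : p ∣ a) (hpb : p ∣ b) (h : a ≠ b) : Two p S := by
  obtain ⟨α, rfl⟩ := ha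
  obtain ⟨β, rfl⟩ := hb
  exact two_of_degree_ne α β hpa hpb h

/-- **`PSU_4(2)`** -/
theorem two_u42 {F : Type u} [Field F] [Fintype F] (hF : Fintype.card F = 2 ^ 2) : Two 5 (PSU 4 F 2) := by
  obtain ⟨χ₁, -, h1, -, h2, -⟩ := H113.PSU.Left43.u42 hF
  obtain ⟨e⟩ := Cfsg.Agent.S0822.result (F := F) (K := ZMod 3) (by rw [hF]; norm_num) (ZMod.card 3)
  have h15 := H677.Tri42.fifteen (F := ZMod 3) (ZMod.card 3)
  rw [← H424.DegTools.charDegrees_congr e] at h15
  exact two_of_mem h15 (H677.Tri42.deg_of_one h1 (n := 20) (by rw [h2]; norm_num)) (by norm_num) (by norm_num)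
    (by norm_num)

/-- degree `90` of `PSU_4(3)` -/
theorem mem90 {F : Type} [Field F] [Fintype F] (hF : Fintype.card F = 3 ^ 2) : 90 ∈ charDegrees (PSU 4 F 3) := by
  obtain ⟨φ, hφ⟩ := PSU.Facts.exF (F := F) (q := 3) (n := 4) hF le_rfl
  refine ⟨φ, ?_⟩
  have e4 : PSU.Levi.uu 3 4 = 80 := by decide
  have e1 : PSU.Levi.uu 3 (4 - 3) = 4 := by decide
  rw [e4, e1] at hφ
  omega

/-- degree `640` of `PSU_4(3)` -/
theorem mem640 {F : Type} [Field F] [Fintype F] (hF : Fintype.card F = 3 ^ 2) : 640 ∈ charDegrees (PSU 4 F 3) := by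
  have : Fact (Nat.Prime 7) := ⟨by norm_num⟩
  have h3 : Fact (Nat.Prime 3) := ⟨Nat.prime_three⟩
  have hs : IsSimpleGroup (PSU 4 F 3) := S0283.result hF 4 (by norm_num) (by norm_num)
  have hcard : Nat.card (PSU 4 F 3) = 3265920 := CTwoTab.card_psu_four_three (by rw [hF]; norm_num)
  have hG := SmallSimple.OrdersA.not_comm hcard (by norm_num)
  obtain ⟨R, hR, hC⟩ := Cfsg.Agent.H809.SelfCent.psu_selfcent 4 3 7 (by decide) F hF
  have h := data_seven hG hcard (by norm_num) (by norm_num) (by norm_num) R hR hC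
  obtain ⟨M, hM, ⟨D⟩⟩ := exists_block h (by norm_num) default (t := 2) (by norm_num)
  have h90 := mem90 hF
  -- degree 729
  have hchar : CharP F 3 := by
    obtain ⟨p, hp⟩ := CharP.exists F
    have hpr : p.Prime := (CharP.char_is_prime_or_zero F p).resolve_right (CharP.char_ne_zero_of_finite F p)
    have : Fact p.Prime := ⟨hpr⟩
    obtain ⟨s, hs0, hs⟩ := FiniteField.card F p
    rw [hF] at hs
    have h1 : p ∣ 3 ^ 2 := by rw [hs]; exact dvd_pow_self _ s.ne_zero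
    have h2 : p = 3 := (Nat.prime_dvd_prime_iff_eq hpr Nat.prime_three).1 (hpr.dvd_of_dvd_pow h1)
    subst h2
    exact hp
  have hlie : IsLieTypeChar 3 (PSU 4 F 3) :=
    Or.inr (Or.inr (Or.inl ⟨F, inferInstance, inferInstance, hchar, 4, 3, hF, by norm_num, by norm_num,
      ⟨MulEquiv.refl _⟩⟩))
  have h729 : 729 ∈ charDegrees (PSU 4 F 3) := by
    obtain ⟨χ, hχ, h1, -⟩ := H167.StChar.hasSt_of_lie Nat.prime_three hlie
    refine ⟨⟨χ, hχ⟩, Blocks.Knorr.charDegree_of_natCast ?_⟩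
    change χ 1 = _
    rw [h1, hcard]
    have : (3265920 : ℕ).factorization 3 = 6 := by
      rw [Nat.factorization_def _ Nat.prime_three]
      rw [show (3265920 : ℕ) = 3 ^ 6 * 4480 by norm_num, padicValNat.mul (by norm_num) (by norm_num),
        padicValNat.prime_pow, padicValNat.eq_zero_of_not_dvd (by norm_num)]
    rw [this]
    norm_num
  have hP := h.card_eq (default : Sylow 7 (PSU 4 F 3))
  have hCP : Nat.card (centralizer ((default : Sylow 7 (PSU 4 F 3)) : Set (PSU 4 F 3))) = 7 := by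
    rw [h.card_centralizer]
  have c1 := degree_cases hM D hP hCP (by norm_num) h90 (by norm_num)
  have c2 := degree_cases hM D hP hCP (by norm_num) h729 (by norm_num)
  have hlen := D.length_degs
  obtain ⟨a, b, hab⟩ : ∃ a b, D.degs = [a, b] := List.length_eq_two.1 (by omega)
  have hspec := D.degs_spec hP
  have hexc := D.dexc_modEq hP (by norm_num)
  rw [← D.dexc_eq (by norm_num)] at hexc
  have hmem := dexc_mem D (by norm_num)
  rw [hab] at c1 c2 hspec hexc hmem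
  simp only [List.mem_cons, List.not_mem_nil, or_false, exists_eq_or_imp, exists_eq_left, List.sum_cons,
    List.sum_nil, add_zero, forall_eq_or_imp, forall_eq] at c1 c2 hspec hexc hmem
  obtain ⟨⟨ha, -, -⟩, ⟨hb, -, -⟩⟩ := hspec
  unfold Int.ModEq at ha hb hexc
  push_cast at ha hb hexc
  have hd : (1 + (a + b)).natAbs = 640 := by (clear * - c1 c2 ha hb; omega)
  rwa [hd] at hmem

/-- **`PSU_4(3)`** -/
theorem two_u43 {F : Type} [Field F] [Fintype F] (hF : Fintype.card F = 3 ^ 2) : Two 5 (PSU 4 F 3) :=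
  two_of_mem (mem90 hF) (mem640 hF) (by norm_num) (by norm_num) (by norm_num)

/-- the local data at `11` -/
theorem data_eleven {G : Type u} [Group G] [Finite G] [IsSimpleGroup G] (hG : ¬ IsMulCommutative G) {n : ℕ}
    (hn : Nat.card G = n) (h7 : 11 ∣ n) (h49 : ¬ 11 ^ 2 ∣ n) (hmod : n / 11 % 11 = 5) (R : Subgroup G)
    (hR : Nat.card R = 11) (hC : centralizer (R : Set G) = R) : Data G 11 5 1 := by
  subst hn
  have hp : Nat.Prime 11 := by norm_num
  have : Fact (Nat.Prime 11) := ⟨hp⟩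
  obtain ⟨e, k, h, -⟩ := exists_data hG hp (by norm_num) h7 h49
  obtain ⟨P, hP⟩ := exists_sylow_eq hp h49 R hR
  have h1 := h.card_centralizer P
  have hk : k = 1 := by
    have h2 : centralizer (P : Set G) = R := by
      have : ((P : Subgroup G) : Set G) = (R : Set G) := congrArg _ hP
      rw [← hC, ← this]
      rfl
    rw [h2, hR] at h1
    omega
  subst hk
  obtain ⟨K, hK, -⟩ := h.loc P
  have he := Nat.le_of_dvd (by norm_num) hK.dvd_pred
  have h3 := h.card_sylow_mul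
  have h4 : Nat.card (Sylow 11 G) % 11 = 1 := card_sylow_modEq_one 11 G
  have h5 : Nat.card G / 11 = Nat.card (Sylow 11 G) * e := by
    rw [← h3, mul_one, show Nat.card (Sylow 11 G) * (11 * e) = 11 * (Nat.card (Sylow 11 G) * e) by ring,
      Nat.mul_div_cancel_left _ (by norm_num)]
  rw [h5, Nat.mul_mod, h4, one_mul, Nat.mod_mod] at hmod
  have he3 : e = 5 := by omega
  subst he3
  exact h

/-- **`PSU_5(2)`** -/
theorem two_u52 {F : Type} [Field F] [Fintype F] (hF : Fintype.card F = 2 ^ 2) : Two 5 (PSU 5 F 2) := by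
  have : Fact (Nat.Prime 11) := ⟨by norm_num⟩
  have h3 : Fact (Nat.Prime 2) := ⟨Nat.prime_two⟩
  have hs : IsSimpleGroup (PSU 5 F 2) := S0283.result hF 5 (by norm_num) (by norm_num)
  have hcard : Nat.card (PSU 5 F 2) = 13685760 := Cfsg.Agent.H251.Small.card_u5 hF
  have hG := SmallSimple.OrdersA.not_comm hcard (by norm_num)
  obtain ⟨R, hR, hC⟩ := Cfsg.Agent.H809.SelfCent.psu_irred (n := 5) (r := 11) hF (by norm_num) (by decide) (by norm_num)
    (by norm_num) (by norm_num) (by norm_num) (by norm_num) (k := 341) (by norm_num) (by norm_num) (by decide)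
    (by norm_num) (by norm_num)
  have h := data_eleven hG hcard (by norm_num) (by norm_num) (by norm_num) R hR hC
  obtain ⟨M, hM, ⟨D⟩⟩ := exists_block h (by norm_num) default (t := 2) (by norm_num)
  -- degree 120
  have h120 : 120 ∈ charDegrees (PSU 5 F 2) := by
    obtain ⟨φ, hφ⟩ := PSU.Facts.exG (F := F) (q := 2) (n := 5) hF (by norm_num)
    refine ⟨φ, ?_⟩
    have e4 : PSU.Levi.uu 2 (5 - 1) = 15 := by decide
    have e1 : PSU.Levi.uu 2 (5 - 2) = 9 := by decide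
    rw [e4, e1] at hφ
    omega
  -- degree 1024
  have hchar : CharP F 2 := by
    obtain ⟨p, hp⟩ := CharP.exists F
    have hpr : p.Prime := (CharP.char_is_prime_or_zero F p).resolve_right (CharP.char_ne_zero_of_finite F p)
    have : Fact p.Prime := ⟨hpr⟩
    obtain ⟨s, hs0, hs⟩ := FiniteField.card F p
    rw [hF] at hs
    have h1 : p ∣ 2 ^ 2 := by rw [hs]; exact dvd_pow_self _ s.ne_zero
    have h2 : p = 2 := (Nat.prime_dvd_prime_iff_eq hpr Nat.prime_two).1 (hpr.dvd_of_dvd_pow h1)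
    subst h2
    exact hp
  have hlie : IsLieTypeChar 2 (PSU 5 F 2) :=
    Or.inr (Or.inr (Or.inl ⟨F, inferInstance, inferInstance, hchar, 5, 2, hF, by norm_num, by norm_num,
      ⟨MulEquiv.refl _⟩⟩))
  have h1024 : 1024 ∈ charDegrees (PSU 5 F 2) := by
    obtain ⟨χ, hχ, h1, -⟩ := H167.StChar.hasSt_of_lie Nat.prime_two hlie
    refine ⟨⟨χ, hχ⟩, Blocks.Knorr.charDegree_of_natCast ?_⟩
    change χ 1 = _
    rw [h1, hcard]
    have : (13685760 : ℕ).factorization 2 = 10 := by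
      rw [Nat.factorization_def _ Nat.prime_two]
      rw [show (13685760 : ℕ) = 2 ^ 10 * 13365 by norm_num, padicValNat.mul (by norm_num) (by norm_num),
        padicValNat.prime_pow, padicValNat.eq_zero_of_not_dvd (by norm_num)]
    rw [this]
    norm_num
  have hP := h.card_eq (default : Sylow 11 (PSU 5 F 2))
  have hCP : Nat.card (centralizer ((default : Sylow 11 (PSU 5 F 2)) : Set (PSU 5 F 2))) = 11 := by
    rw [h.card_centralizer]
  have c1 := degree_cases hM D hP hCP (by norm_num) h120 (by norm_num)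
  have c2 := degree_cases hM D hP hCP (by norm_num) h1024 (by norm_num)
  have hsq := D.sum_sq_le
  rw [hcard] at hsq
  have hnn : (0 : ℤ) ≤ (D.degs.map (· ^ 2)).sum := List.sum_nonneg (by
    intro x hx
    obtain ⟨z, -, rfl⟩ := List.mem_map.1 hx
    (clear * -; positivity))
  have hfn : (0 : ℤ) ≤ (D.f : ℤ) ^ 2 := by (clear * -; positivity)
  have hbd : ∀ z ∈ D.degs, z.natAbs ≤ 3699 := by
    intro z hz
    have h1 : z ^ 2 ≤ (D.degs.map (· ^ 2)).sum := List.single_le_sum (by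
      intro x hx
      obtain ⟨z, -, rfl⟩ := List.mem_map.1 hx
      (clear * -; positivity)) _ (List.mem_map.2 ⟨z, hz, rfl⟩)
    push_cast at hsq
    have h2 : z ^ 2 ≤ 13685760 := by linarith only [hsq, hfn, h1]
    have h3 : (z.natAbs : ℤ) ^ 2 ≤ 13685760 := by rw [Int.natAbs_sq]; exact h2
    by_contra hcon
    push Not at hcon
    have h4 : (3700 : ℤ) ≤ z.natAbs := by exact_mod_cast hcon
    nlinarith only [h3, h4]
  have hfb : D.dexc.natAbs ≤ 2616 := by
    rw [D.natAbs_dexc]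
    push_cast at hsq
    by_contra hcon
    push Not at hcon
    have h4 : (2617 : ℤ) ≤ D.f := by exact_mod_cast hcon
    nlinarith only [hsq, hnn, hcon]
  have h3 : ∀ z ∈ D.degs, (decide (3 ≤ z.natAbs) && decide (z.natAbs ≤ 3699)) = true := fun z hz => by
    rw [Bool.and_eq_true, decide_eq_true_eq, decide_eq_true_eq]
    exact ⟨degs_three_le (by rw [hcard]; norm_num) (by rw [hcard]; norm_num) D z hz, hbd z hz⟩
  have h4 := SmallSimple.DegreeCheck.degs_check D (h.card_eq _) rfl hcard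
    (L := [(2, 10), (3, 5), (5, 1), (11, 1)]) (by norm_num)
    (by norm_num) (F := fun z => decide (3 ≤ z.natAbs) && decide (z.natAbs ≤ 3699))
    (FX := fun z => decide (z.natAbs ≤ 2616))
    (C := [-2430, -1440, -648, -384, -120, -54, -32, -10, 12, 45, 144, 243, 320, 540, 1024, 1728])
    (Ds := [-1920, -864, -512, -270, -160, -72, -6, 5, 16, 27, 60, 192, 324, 720, 1215, 2304]) h3
    (by rw [decide_eq_true_eq]; exact hfb)
    (by decide) (o := 2430) (w := 2000) (M := 0) (wt := fun _ => 0) (V := 0) (Or.inl rfl)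
    (P := fun l => !(l.any (fun z => z.natAbs == 120) && l.any (fun z => z.natAbs == 1024)) ||
      l.any (fun z => z % 5 == 0 && !(z.natAbs == 120))) (by decide +kernel)
  have hexc := D.dexc_modEq hP (by norm_num)
  rw [← D.dexc_eq (by norm_num)] at hexc
  unfold Int.ModEq at hexc
  push_cast at hexc
  have d1 : D.degs.any (fun z => z.natAbs == 120) = true := by
    rw [List.any_eq_true]
    rcases c1 with c1 | ⟨z, hz, hz'⟩ | c1
    · exact absurd c1 (by norm_num)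
    · exact ⟨z, hz, by rw [hz']; rfl⟩
    · exfalso; omega
  have d2 : D.degs.any (fun z => z.natAbs == 1024) = true := by
    rw [List.any_eq_true]
    rcases c2 with c2 | ⟨z, hz, hz'⟩ | c2
    · exact absurd c2 (by norm_num)
    · exact ⟨z, hz, by rw [hz']; rfl⟩
    · exfalso; omega
  rw [d1, d2, Bool.and_self, Bool.not_true, Bool.false_or, List.any_eq_true] at h4
  obtain ⟨z, hz, hz'⟩ := h4
  rw [Bool.and_eq_true] at hz'
  have e1 : z % 5 = 0 := by simpa only [_root_.EuclideanDomain.mod_eq_zero, _root_.beq_iff_eq] using hz'.1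
  have e2 : z.natAbs ≠ 120 := by simpa using hz'.2
  exact two_of_mem h120 (degs_mem D hz) (by norm_num) (by omega) (Ne.symm e2)

end Cfsg.Agent.H113.Two.PsuSmall
end

-- part: H113/Two/PsuTwo
section
prune_inst 0x800000000000000000000800100000000000000100204000006100000000000400008021000900000000000000000000000000000003000000200000000020000000000000006002000000000000000020000000000000000041000000000000
set_option linter.all false
open scoped Cfsg.Agent.FastGrp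

-- part: H113/Two/PsuNum
section
/-!
# Arithmetic of the degrees of `PSU_n(q)` (helper113)
-/

set_option autoImplicit false
set_option linter.unusedSectionVars false
set_option linter.style.haveILetI false

open Cfsg

namespace Cfsg.Agent.H113.Two.PsuNum

open Cfsg.Agent.H477.HC Cfsg.Agent.H477.HC.CForm Cfsg.Agent.H749.Two Cfsg.Agent.H113.Two.HcOne
open Cfsg.Agent.H113.Two.HermData Cfsg.Agent.H113.Two.PsuChars
open Cfsg.Agent.H113.PSU.Facts Cfsg.Agent.H113.PSU.Levi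

universe u

section arith

variable {q n : ℕ}

theorem cop_uu (hq : 1 ≤ q) {i : ℕ} (hi : 1 ≤ i) : Nat.Coprime q (uu q i) := by
  by_contra h
  obtain ⟨r, hr, h1, h2⟩ := Nat.Prime.not_coprime_iff_dvd.1 h
  exact not_dvd_q hr hi hq h2 h1

theorem uu_one : uu q 1 = q + 1 := by unfold uu; simp only [_root_.Nat.not_even_one, ↓ _root_.reduceIte, _root_.pow_one, _root_.Nat.add_left_cancel_iff]

theorem uu_two : uu q 2 = q ^ 2 - 1 := by unfold uu; simp only [_root_.even_two, ↓ _root_.reduceIte]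

theorem cop_AA (hq : 1 ≤ q) (hn : 4 ≤ n) : Nat.Coprime q (AA q n) := by
  rw [AA_eq hn]
  exact Nat.Coprime.prod_right fun i hi => cop_uu hq (idx_le hn hi).1

theorem uu_dvd_mul (hq : 1 ≤ q) (i j : ℕ) : uu q i ∣ uu q (i * j) := by
  have h : ((uu q i : ℕ) : ℤ) ∣ (uu q (i * j) : ℤ) := by
    rw [uu_cast hq, uu_cast hq, pow_mul, pow_mul]
    exact sub_dvd_pow_sub_pow _ _ j
  exact_mod_cast h

theorem lt_uu_mul (hq : 2 ≤ q) (hn : 4 ≤ n) : uu q n < uu q (n - 1) * (q ^ 2 - 1) := by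
  obtain ⟨m, rfl⟩ : ∃ m, n = m + 1 := ⟨n - 1, by omega⟩
  rw [Nat.add_sub_cancel]
  have h1 : 2 ^ 3 ≤ q ^ m := (Nat.pow_le_pow_right (by norm_num) (by omega)).trans (Nat.pow_le_pow_left hq m)
  have h2 : uu q (m + 1) ≤ q * q ^ m + 1 := by
    unfold uu
    split_ifs
    · rw [pow_succ']; omega
    · rw [pow_succ']
  have h3 : q ^ m - 1 ≤ uu q m := by
    unfold uu
    split_ifs <;> omega
  obtain ⟨x, hx⟩ : ∃ x, q ^ m = x + 1 := ⟨q ^ m - 1, by omega⟩
  rw [hx, Nat.add_sub_cancel] at h3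
  have h4 : q + (q - 1) ≤ q ^ 2 - 1 := by
    obtain ⟨k, rfl⟩ : ∃ k, q = k + 2 := ⟨q - 2, by omega⟩
    have : (k + 2) ^ 2 = k ^ 2 + 4 * k + 4 := by ring
    rw [this]
    have : 0 ≤ k ^ 2 := Nat.zero_le _
    omega
  calc uu q (m + 1) ≤ q * (x + 1) + 1 := by rw [← hx]; exact h2
    _ < x * (q + (q - 1)) := by
      obtain ⟨k, rfl⟩ : ∃ k, q = k + 2 := ⟨q - 2, by omega⟩
      have e1 : k + 2 - 1 = k + 1 := by omega
      rw [e1]
      have h5 : 7 ≤ x := by omega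
      nlinarith only [h1, hx]
    _ ≤ uu q m * (q ^ 2 - 1) := Nat.mul_le_mul h3 h4

theorem uu_lt_succ (hq : 2 ≤ q) {n : ℕ} (h : ¬ Even (n + 1)) : uu q n < uu q (n + 1) := by
  have h1 : Even n := by
    rw [Nat.even_add_one, not_not] at h
    exact h
  unfold uu
  rw [if_pos h1, if_neg h]
  have h2 : q ^ n ≤ q ^ (n + 1) := Nat.pow_le_pow_right (by omega) (by omega)
  omega

/-- the Levi degree is different from the two rank 3 degrees -/
theorem AA_ne (hq : 2 ≤ q) (hn : 4 ≤ n) {p a d t k x y : ℕ} (hp : p ∣ q) (hA : AA q n ∣ p ^ a * (d * t))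
    (ht : t ∣ q + 1) (hd : (q ^ 2 - 1) * (q + 1) * d = q ^ k * uu q x * uu q y)
    (hxy : (x = n ∧ y = n - 3) ∨ (x = n - 1 ∧ y = n - 2)) : False := by
  have hx1 : 1 ≤ x := by omega
  have hy1 : 1 ≤ y := by omega
  have hux := uu_pos hq hx1
  have huy := uu_pos hq hy1
  have hqq : 2 * 2 ≤ q * q := Nat.mul_le_mul hq hq
  have hs : 3 ≤ q ^ 2 - 1 := by rw [sq]; omega
  -- coprimality
  have hcop : Nat.Coprime q (AA q n * ((q ^ 2 - 1) * (q + 1))) := by
    refine Nat.Coprime.mul_right (cop_AA (by omega) hn) (Nat.Coprime.mul_right ?_ ?_)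
    · rw [← uu_two]; exact cop_uu (by omega) (by norm_num)
    · rw [← uu_one]; exact cop_uu (by omega) le_rfl
  have h1 : AA q n * ((q ^ 2 - 1) * (q + 1)) ∣ p ^ a * (q ^ k * (uu q x * uu q y * t)) := by
    have h2 := Nat.mul_dvd_mul_right hA ((q ^ 2 - 1) * (q + 1))
    refine h2.trans (dvd_of_eq ?_)
    calc p ^ a * (d * t) * ((q ^ 2 - 1) * (q + 1)) = p ^ a * (((q ^ 2 - 1) * (q + 1) * d) * t) := by ring
      _ = p ^ a * ((q ^ k * uu q x * uu q y) * t) := by rw [hd]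
      _ = _ := by ring
  have h2 := (Nat.Coprime.pow_left a (Nat.Coprime.coprime_dvd_left hp hcop)).symm.dvd_of_dvd_mul_left h1
  have h3 := (Nat.Coprime.pow_left k hcop).symm.dvd_of_dvd_mul_left h2
  have ht0 : 0 < t := Nat.pos_of_dvd_of_pos ht (by omega)
  have h4 := Nat.le_of_dvd (Nat.mul_pos (Nat.mul_pos hux huy) ht0) h3
  have ht' := Nat.le_of_dvd (by omega) ht
  have h5 : AA q n * (q ^ 2 - 1) ≤ uu q x * uu q y := by
    apply Nat.le_of_mul_le_mul_right (c := q + 1)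
    · calc AA q n * (q ^ 2 - 1) * (q + 1) = AA q n * ((q ^ 2 - 1) * (q + 1)) := by ring
        _ ≤ uu q x * uu q y * t := h4
        _ ≤ uu q x * uu q y * (q + 1) := Nat.mul_le_mul_left _ ht'
    · omega
  have hAA0 : 0 < AA q n := by
    rw [AA_eq hn]
    exact Finset.prod_pos fun i hi => uu_pos hq (idx_le hn hi).1
  -- the lower bound
  have key : ∀ c e : ℕ, c ∈ idx n → e ∈ idx n → c ≠ e → uu q x * uu q y < uu q c * uu q e * (q ^ 2 - 1) → False := by
    intro c e hc he hce hlt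
    have h6 := Nat.le_of_dvd hAA0 (mul_dvd_AA (q := q) hn hc he hce)
    have h7 := Nat.mul_le_mul_right (q ^ 2 - 1) h6
    omega
  have hself : ∀ N : ℕ, 0 < N → N < N * (q ^ 2 - 1) := by
    intro N hN
    nlinarith only [hs, hN]
  by_cases hev : Even n
  · have hidx : ∀ i, 1 ≤ i → i < n → i ∈ idx n := fun i h1 h2 =>
      mem_idx hn h1 (by omega) (by unfold exn; rw [if_pos hev]; omega) (fun _ => hev)
    rcases hxy with ⟨rfl, rfl⟩ | ⟨rfl, rfl⟩
    · refine key (x - 1) (x - 3) (hidx _ (by omega) (by omega)) (hidx _ (by omega) (by omega)) (by omega) ?_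
      have h6 := lt_uu_mul hq hn
      calc uu q x * uu q (x - 3) < (uu q (x - 1) * (q ^ 2 - 1)) * uu q (x - 3) := Nat.mul_lt_mul_of_pos_right h6 huy
        _ = _ := by ring
    · exact key (n - 1) (n - 2) (hidx _ (by omega) (by omega)) (hidx _ (by omega) (by omega)) (by omega)
        (hself _ (Nat.mul_pos hux huy))
  · have h5' : n ≠ 4 := by rintro rfl; exact hev (by decide)
    have hidx : ∀ i, 2 ≤ i → i ≤ n → i ≠ n - 1 → i ∈ idx n := fun i h1 h2 h3 =>
      mem_idx hn (by omega) h2 (by unfold exn; rw [if_neg hev]; omega) (fun h => by omega)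
    rcases hxy with ⟨rfl, rfl⟩ | ⟨rfl, rfl⟩
    · exact key x (x - 3) (hidx _ (by omega) (by omega) (by omega)) (hidx _ (by omega) (by omega) (by omega)) (by omega)
        (hself _ (Nat.mul_pos hux huy))
    · refine key n (n - 2) (hidx _ (by omega) (by omega) (by omega)) (hidx _ (by omega) (by omega) (by omega)) (by omega) ?_
      have h6 : uu q (n - 1) < uu q n := by
        have h7 := uu_lt_succ hq (n := n - 1) (by
          have h8 : n - 1 + 1 = n := by omega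
          rwa [h8])
        have h8 : n - 1 + 1 = n := by omega
        rwa [h8] at h7
      calc uu q (n - 1) * uu q (n - 2) < uu q n * uu q (n - 2) := Nat.mul_lt_mul_of_pos_right h6 huy
        _ ≤ uu q n * uu q (n - 2) * (q ^ 2 - 1) := Nat.le_mul_of_pos_right _ (by omega)

/-- an odd prime divisor of `q² + 1` -/
theorem exists_odd (hq : 2 ≤ q) : ∃ s : ℕ, s.Prime ∧ s ∣ q ^ 2 + 1 ∧ s ≠ 2 := by
  refine exists_prime_ne Nat.prime_two ?_ (by nlinarith)
  intro h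
  have h1 : (q ^ 2 + 1) % 4 = 0 := Nat.mod_eq_zero_of_dvd h
  rw [sq] at h1
  have h2 : q % 4 = 0 ∨ q % 4 = 1 ∨ q % 4 = 2 ∨ q % 4 = 3 := by omega
  have h3 : (q * q + 1) % 4 = ((q % 4) * (q % 4) + 1) % 4 := by
    rw [Nat.add_mod, Nat.mul_mod, Nat.add_mod ((q % 4) * (q % 4))]
  rw [h3] at h1
  rcases h2 with h | h | h | h <;> rw [h] at h1 <;> norm_num at h1

/-- primes dividing `q² + 1` do not divide the other factors -/
theorem not_dvd_of (hq : 2 ≤ q) {s : ℕ} (hs : s.Prime) (h1 : s ∣ q ^ 2 + 1) (h2 : s ≠ 2) :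
    ¬ s ∣ q ∧ ¬ s ∣ q ^ 2 - 1 ∧ ¬ s ∣ q + 1 ∧ ¬ s ∣ uu q 3 ∧ ¬ s ∣ uu q 5 := by
  have e3 : uu q 3 = q ^ 3 + 1 := by unfold uu; rw [if_neg (by decide)]
  have e5 : uu q 5 = q ^ 5 + 1 := by unfold uu; rw [if_neg (by decide)]
  have hqq : 2 * 2 ≤ q * q := Nat.mul_le_mul hq hq
  have a1 : ¬ s ∣ q := by
    intro h
    have h3 : s ∣ q ^ 2 := h.trans (dvd_pow_self q two_ne_zero)
    exact hs.one_lt.ne' (Nat.dvd_one.1 ((Nat.dvd_add_right h3).1 h1))
  have a2 : ¬ s ∣ q ^ 2 - 1 := by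
    intro h
    have h3 := Nat.dvd_sub h1 h
    have h4 : q ^ 2 + 1 - (q ^ 2 - 1) = 2 := by rw [sq]; omega
    rw [h4] at h3
    exact h2 ((Nat.prime_dvd_prime_iff_eq hs Nat.prime_two).1 h3)
  have a3 : ¬ s ∣ q + 1 := fun h => a2 (by
    rw [Cfsg.Agent.H113.PSU.Facts.sq_sub (by omega)]
    exact h.mul_left _)
  have a3' : ¬ s ∣ q - 1 := fun h => a2 (by
    rw [Cfsg.Agent.H113.PSU.Facts.sq_sub (by omega)]
    exact h.mul_right _)
  refine ⟨a1, a2, a3, ?_, ?_⟩
  · rw [e3]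
    intro h
    have h3 := Nat.dvd_sub (h1.mul_left q) h
    have h4 : q * (q ^ 2 + 1) - (q ^ 3 + 1) = q - 1 := by
      have : q * (q ^ 2 + 1) = q ^ 3 + q := by ring
      rw [this]; omega
    rw [h4] at h3
    exact a3' h3
  · rw [e5]
    intro h
    -- `q⁵ + 1 + (q² + 1) q = (q² + 1) q³ + (q + 1)`
    have h3 : q ^ 5 + 1 + (q ^ 2 + 1) * q = (q ^ 2 + 1) * q ^ 3 + (q + 1) := by ring
    have h4 : s ∣ (q ^ 2 + 1) * q ^ 3 + (q + 1) := by
      rw [← h3]
      exact Nat.dvd_add h (h1.mul_right _)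
    exact a3 ((Nat.dvd_add_right (h1.mul_right _)).1 h4)

end arith

section chars

variable {F : Type u} [Field F] [Fintype F] {q n : ℕ}

/-- the number of points -/
theorem card_Om1 (hF : Fintype.card F = q ^ 2) (hq : Nat.card F = q ^ 2) (hn : 1 ≤ n) :
    (q ^ 2 - 1) * Nat.card ((hermF F hq n).Om 1) = uu q n * uu q (n - 1) := by
  have hq2 := LieClassical.HermBasic.two_le hF
  have h1 := card_pts (F := hermF F hq n) (fun _ => True) (fun _ _ _ _ => trivial)
  have h2 : Nat.card {x : (hermF F hq n).Pt // ∀ v ∈ x.1, v ≠ 0 → True} = Nat.card ((hermF F hq n).Om 1) :=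
    Nat.card_congr ⟨fun x => x.1, fun x => ⟨x, fun _ _ _ => trivial⟩, fun x => rfl, fun x => rfl⟩
  have h3 := CForm.card_ne_zero (V := Fin n → F) (fun v => (hermF F hq n).Sing v) sing_zero
  have h4 : Nat.card {v : Fin n → F // v ≠ 0 ∧ (hermF F hq n).Sing v ∧ True} =
      Nat.card {v : Fin n → F // v ≠ 0 ∧ (hermF F hq n).Sing v} :=
    Nat.card_congr (Equiv.subtypeEquivRight fun v => by simp)
  have h5 : Nat.card {v : Fin n → F // (hermF F hq n).Sing v} = Cfsg.Agent.H113.PSU.Points.Niso n F q :=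
    Nat.card_congr (Equiv.subtypeEquivRight fun v => ⟨fun h => h.2, fun h => ⟨h, h⟩⟩)
  rw [h2, h4, hq] at h1
  rw [h5] at h3
  have h6 : (((q ^ 2 - 1) * Nat.card ((hermF F hq n).Om 1) + 1 : ℕ) : ℤ) = ((uu q n * uu q (n - 1) + 1 : ℕ) : ℤ) := by
    rw [h1, h3, Cfsg.Agent.H113.PSU.Points.Niso_eq hF hn]
    push_cast
    rw [uu_cast (by omega), uu_cast (by omega)]
    obtain ⟨m, rfl⟩ : ∃ m, n = m + 1 := ⟨n - 1, by omega⟩
    rw [Nat.add_sub_cancel, pow_succ (-1 : ℤ)]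
    ring
  have h7 : (q ^ 2 - 1) * Nat.card ((hermF F hq n).Om 1) + 1 = uu q n * uu q (n - 1) + 1 := by exact_mod_cast h6
  exact Nat.add_right_cancel h7

theorem card_Om1_four (hF : Fintype.card F = q ^ 2) (hq : Nat.card F = q ^ 2) :
    Nat.card ((hermF F hq 4).Om 1) = (q ^ 2 + 1) * (q ^ 3 + 1) := by
  have hq2 := LieClassical.HermBasic.two_le hF
  have h1 := card_Om1 hF hq (n := 4) (by norm_num)
  have e4 : uu q 4 = (q ^ 2 - 1) * (q ^ 2 + 1) := by
    unfold uu; rw [if_pos (by decide)]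
    obtain ⟨t, ht⟩ : ∃ t, q ^ 2 = t + 1 := ⟨q ^ 2 - 1, by have := Nat.pow_pos (n := 2) (show 0 < q by omega); omega⟩
    have : q ^ 4 = (q ^ 2) ^ 2 := by ring
    rw [this, ht, Nat.add_sub_cancel]
    have : (t + 1) ^ 2 = t * (t + 1 + 1) + 1 := by ring
    rw [this, Nat.add_sub_cancel]
  have e3 : uu q 3 = q ^ 3 + 1 := by unfold uu; rw [if_neg (by decide)]
  rw [e4, e3, mul_assoc] at h1
  refine Nat.eq_of_mul_eq_mul_left ?_ h1
  have : 2 ^ 2 ≤ q ^ 2 := Nat.pow_le_pow_left hq2 2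
  omega

theorem card_Om1_five (hF : Fintype.card F = q ^ 2) (hq : Nat.card F = q ^ 2) :
    Nat.card ((hermF F hq 5).Om 1) = (q ^ 2 + 1) * (q ^ 5 + 1) := by
  have hq2 := LieClassical.HermBasic.two_le hF
  have h1 := card_Om1 hF hq (n := 5) (by norm_num)
  have e4 : uu q 4 = (q ^ 2 - 1) * (q ^ 2 + 1) := by
    unfold uu; rw [if_pos (by decide)]
    obtain ⟨t, ht⟩ : ∃ t, q ^ 2 = t + 1 := ⟨q ^ 2 - 1, by have := Nat.pow_pos (n := 2) (show 0 < q by omega); omega⟩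
    have : q ^ 4 = (q ^ 2) ^ 2 := by ring
    rw [this, ht, Nat.add_sub_cancel]
    have : (t + 1) ^ 2 = t * (t + 1 + 1) + 1 := by ring
    rw [this, Nat.add_sub_cancel]
  have e5 : uu q 5 = q ^ 5 + 1 := by unfold uu; rw [if_neg (by decide)]
  have h2 : (q ^ 2 - 1) * Nat.card ((hermF F hq 5).Om 1) = (q ^ 2 - 1) * ((q ^ 2 + 1) * (q ^ 5 + 1)) := by
    rw [h1, e5, show 5 - 1 = 4 from rfl, e4]; ring
  refine Nat.eq_of_mul_eq_mul_left ?_ h2
  have : 2 ^ 2 ≤ q ^ 2 := Nat.pow_le_pow_left hq2 2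
  omega

/-- **the Levi character** -/
theorem exA3 (hF : Fintype.card F = q ^ 2) (hq : Nat.card F = q ^ 2) {p : ℕ} [Fact p.Prime] [CharP F p] (hn : 4 ≤ n) :
    ∃ (φ : IrrCharacter (PSU n F q)) (t a : ℕ), charDegree (φ : PSU n F q → ℂ) * t = dg (hermF F hq n) (n / 2) ∧
      t ∣ q + 1 ∧ AA q n ∣ p ^ a * (charDegree (φ : PSU n F q → ℂ) * t) := by
  rcases Nat.even_or_odd' n with ⟨k, hk | hk⟩
  · have h2 : n = k + (k + 0) := by omega
    obtain ⟨a, ha⟩ := dvd_even hq (p := p) (k := k) (by omega)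
    subst h2
    obtain ⟨φ, t, h1, -, h3, -⟩ := exLevi (k := k) (n' := 0) (n := k + (k + 0)) hF hq (by omega) rfl
    have e1 : (k + (k + 0)) / 2 = k := by omega
    refine ⟨φ, t, a, by rw [e1]; exact h1, h3, ?_⟩
    rw [h1]
    unfold AA
    rw [if_pos ⟨k, by omega⟩]
    have h4 : k + (k + 0) - 1 = 2 * k - 1 := by omega
    rw [h4]
    exact ha
  · have h2 : n = k + (k + 1) := by omega
    obtain ⟨a, ha⟩ := dvd_odd hq (p := p) (k := k) (by omega)
    subst h2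
    obtain ⟨φ, t, h1, -, h3, -⟩ := exLevi (k := k) (n' := 1) (n := k + (k + 1)) hF hq (by omega) rfl
    have e1 : (k + (k + 1)) / 2 = k := by omega
    refine ⟨φ, t, a, by rw [e1]; exact h1, h3, ?_⟩
    rw [h1]
    unfold AA
    rw [if_neg (Nat.not_even_iff_odd.2 ⟨k, by omega⟩)]
    have h4 : k + (k + 1) - 2 = 2 * k - 1 := by omega
    have h5 : k + (k + 1) = 2 * k + 1 := by omega
    rw [h4]
    rw [show uu q (k + (k + 1)) = uu q (2 * k + 1) from by rw [h5]]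
    exact ha

/-- `|Om 2|`, `n = 4` -/
theorem card_Om2_four (hF : Fintype.card F = q ^ 2) (hq : Nat.card F = q ^ 2) :
    ∃ x, Nat.card ((hermF F hq 4).Om 2) ∣ q ^ x * ((q + 1) * uu q 3) := by
  obtain ⟨p, hpr, hp, hpq⟩ := prime_pow hF
  have : Fact p.Prime := ⟨hpr⟩
  have hq2 := LieClassical.HermBasic.two_le hF
  obtain ⟨W₀, hW₀, hcmp⟩ := hermF_cmp F hq 2 0
  obtain ⟨a, ha⟩ := card_exact hcmp (p := p) hW₀
  obtain ⟨s, hs⟩ := card_GL_eq F 2 (by norm_num)
  rw [card_iso, card_iso, hs, hq] at ha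
  have e1 : uu q 1 = q + 1 := uu_one
  have e2 : uu q 2 = q ^ 2 - 1 := uu_two
  have e4 : uu q 4 = (q ^ 2) ^ 2 - 1 := by
    unfold uu; rw [if_pos (by decide), ← pow_mul]
  have h4 : 2 ^ 2 ≤ q ^ 2 := Nat.pow_le_pow_left hq2 2
  have hp4 : 0 < (q ^ 2) ^ 2 - 1 := by
    have : 2 ^ 2 ≤ (q ^ 2) ^ 2 := Nat.pow_le_pow_left (by omega) 2
    omega
  refine ⟨6, ?_⟩
  have h5 : ((q ^ 2) ^ 2 - 1) * (q ^ 2 - 1) * (q ^ 6 * ((q + 1) * uu q 3)) =
      ((q ^ 2) ^ 2 - 1) * (q ^ 2 - 1) * (Nat.card ((hermF F hq 4).Om 2) * (p ^ a * (q ^ 2) ^ s)) := by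
    have e5 : q ^ ((2 + (2 + 0)) * (2 + (2 + 0) - 1) / 2) * ∏ i ∈ Finset.range (2 + (2 + 0)), uu q (i + 1) =
        ((q ^ 2) ^ 2 - 1) * (q ^ 2 - 1) * (q ^ 6 * ((q + 1) * uu q 3)) := by
      simp only [Finset.prod_range_succ, Finset.prod_range_zero, show 2 + (2 + 0) = 4 from rfl, zero_add, one_mul,
        show 1 + 1 = 2 from rfl, show 2 + 1 = 3 from rfl, e1, e2, e4]
      norm_num only []
      ring
    rw [← e5, ha]
    simp only [_root_.Nat.add_zero, _root_.Nat.reduceAdd, _root_.Nat.card_coe_set_eq, _root_.Nat.Ico_succ_singleton, _root_.Finset.prod_singleton, _root_.pow_one, _root_.zero_tsub, _root_.MulZeroClass.mul_zero, _root_.Nat.zero_div, _root_.pow_zero, _root_.Finset.range_zero, _root_.Finset.prod_empty, _root_.mul_one]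
    ring
  have h6 := Nat.eq_of_mul_eq_mul_left (Nat.mul_pos hp4 (by omega)) h5
  rw [h6]
  exact Dvd.intro _ rfl

/-- `|Om 2|`, `n = 5` -/
theorem card_Om2_five (hF : Fintype.card F = q ^ 2) (hq : Nat.card F = q ^ 2) :
    ∃ x, Nat.card ((hermF F hq 5).Om 2) ∣ q ^ x * (uu q 3 * uu q 5) := by
  obtain ⟨p, hpr, hp, hpq⟩ := prime_pow hF
  have : Fact p.Prime := ⟨hpr⟩
  have hq2 := LieClassical.HermBasic.two_le hF
  obtain ⟨W₀, hW₀, hcmp⟩ := hermF_cmp F hq 2 1
  obtain ⟨a, ha⟩ := card_exact hcmp (p := p) hW₀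
  obtain ⟨s, hs⟩ := card_GL_eq F 2 (by norm_num)
  rw [card_iso, card_iso, hs, hq] at ha
  have e1 : uu q 1 = q + 1 := uu_one
  have e2 : uu q 2 = q ^ 2 - 1 := uu_two
  have e4 : uu q 4 = (q ^ 2) ^ 2 - 1 := by
    unfold uu; rw [if_pos (by decide), ← pow_mul]
  have h4 : 2 ^ 2 ≤ q ^ 2 := Nat.pow_le_pow_left hq2 2
  have hp4 : 0 < (q ^ 2) ^ 2 - 1 := by
    have : 2 ^ 2 ≤ (q ^ 2) ^ 2 := Nat.pow_le_pow_left (by omega) 2
    omega
  refine ⟨10, ?_⟩
  have h5 : ((q ^ 2) ^ 2 - 1) * (q ^ 2 - 1) * (q + 1) * (q ^ 10 * (uu q 3 * uu q 5)) =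
      ((q ^ 2) ^ 2 - 1) * (q ^ 2 - 1) * (q + 1) * (Nat.card ((hermF F hq 5).Om 2) * (p ^ a * (q ^ 2) ^ s)) := by
    have e5 : q ^ ((2 + (2 + 1)) * (2 + (2 + 1) - 1) / 2) * ∏ i ∈ Finset.range (2 + (2 + 1)), uu q (i + 1) =
        ((q ^ 2) ^ 2 - 1) * (q ^ 2 - 1) * (q + 1) * (q ^ 10 * (uu q 3 * uu q 5)) := by
      simp only [Finset.prod_range_succ, Finset.prod_range_zero, show 2 + (2 + 1) = 5 from rfl, zero_add, one_mul,
        show 1 + 1 = 2 from rfl, show 2 + 1 = 3 from rfl, show 3 + 1 = 4 from rfl, e1, e2, e4]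
      norm_num only []
      ring
    rw [← e5, ha]
    simp only [e1, _root_.Nat.reduceAdd, _root_.Nat.card_coe_set_eq, _root_.Nat.Ico_succ_singleton, _root_.Finset.prod_singleton, _root_.pow_one, _root_.tsub_self, _root_.MulZeroClass.mul_zero, _root_.Nat.zero_div, _root_.pow_zero, _root_.Finset.range_one, _root_.zero_add, _root_.one_mul]
    ring
  have h6 := Nat.eq_of_mul_eq_mul_left (Nat.mul_pos (Nat.mul_pos hp4 (by omega)) (by omega)) h5
  rw [h6]
  exact Dvd.intro _ rfl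

end chars

end Cfsg.Agent.H113.Two.PsuNum
end

-- part: H113/Two/PsuTwo
section
/-!
# Two irreducible characters of `PSU_n(q)`, `n ≥ 4`, of different degrees divisible by `p` (helper113)

`p` is a prime divisor of the group order which does not divide `q`.
-/

set_option autoImplicit false
set_option linter.unusedSectionVars false
set_option linter.style.haveILetI false

open Cfsg

namespace Cfsg.Agent.H113.Two.PsuTwo

open Cfsg.Agent.H477.HC Cfsg.Agent.H477.HC.CForm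
open Cfsg.Agent.H113.Two.HermData Cfsg.Agent.H113.Two.PsuChars Cfsg.Agent.H113.Two.PsuNum
open Cfsg.Agent.H113.PSU.Facts Cfsg.Agent.H113.PSU.Levi Cfsg.Agent.H596.OneFacts

universe u

/-- divisibility of the rank 3 degrees -/
theorem dvd_rank3 {q k d r X Y : ℕ} (hr : r.Prime) (h : (q ^ 2 - 1) * (q + 1) * d = q ^ k * X * Y)
    (h1 : ¬ r ∣ q ^ 2 - 1) (h0 : ¬ r ∣ q + 1) (h2 : r ∣ X ∨ r ∣ Y) : r ∣ d := by
  have h3 : r ∣ (q ^ 2 - 1) * (q + 1) * d := by
    rw [h]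
    rcases h2 with h2 | h2
    · exact (h2.mul_left _).mul_right _
    · exact h2.mul_left _
  rcases hr.dvd_mul.1 h3 with h4 | h4
  · rcases hr.dvd_mul.1 h4 with h5 | h5
    · exact absurd h5 h1
    · exact absurd h5 h0
  · exact h4

section

variable {F : Type u} [Field F] [Fintype F] {q n : ℕ}

/-- the Levi character and a rank 3 character -/
theorem two_rank3 (hF : Fintype.card F = q ^ 2) (hn : 4 ≤ n) {r : ℕ} (hr : r.Prime) (hrq : ¬ r ∣ q)
    (hA : ∃ i ∈ idx n, r ∣ uu q i) (ψ : IrrCharacter (PSU n F q)) {k x y : ℕ}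
    (hψ : (q ^ 2 - 1) * (q + 1) * charDegree (ψ : PSU n F q → ℂ) = q ^ k * uu q x * uu q y)
    (hxy : (x = n ∧ y = n - 3) ∨ (x = n - 1 ∧ y = n - 2)) (hrψ : r ∣ charDegree (ψ : PSU n F q → ℂ)) :
    Two r (PSU n F q) := by
  have hq : Nat.card F = q ^ 2 := by rw [Nat.card_eq_fintype_card, hF]
  have hq2 := LieClassical.HermBasic.two_le hF
  obtain ⟨p, hpr, hp, hpq⟩ := prime_pow hF
  have : Fact p.Prime := ⟨hpr⟩
  obtain ⟨φ, t, a, h1, h2, h3⟩ := exA3 hF hq (p := p) hn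
  have ht0 : 0 < t := Nat.pos_of_dvd_of_pos h2 (by omega)
  obtain ⟨i, hi, hri⟩ := hA
  have hrp : r ≠ p := fun h => hrq ((hpq r hr).2 h)
  have h4 : r ∣ charDegree (φ : PSU n F q → ℂ) :=
    dvd_of_index h3 h2 ht0 (prime_mul_dvd_AA (by omega) hn hi hri) ((Nat.coprime_primes hr hpr).2 hrp)
  refine two_of_degree_ne φ ψ h4 hrψ fun h => ?_
  rw [h] at h3
  exact AA_ne hq2 hn ((hpq p hpr).2 rfl) h3 h2 hψ hxy

/-- **the pair** -/
theorem two_pair (hF : Fintype.card F = q ^ 2) {k l : ℕ} (hk : 2 ≤ k) (hl : l ≤ 1) (hn : n = k + (k + (1 + (1 + l))))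
    {r : ℕ} (hr : r.Prime) (hrq : ¬ r ∣ q) {i : ℕ} (h1 : 1 + (1 + l) < i) (h2 : i ≤ n) (h3 : i ≠ 2 * k)
    (hri : r ∣ uu q i) : Two r (PSU n F q) := by
  classical
  have hq : Nat.card F = q ^ 2 := by rw [Nat.card_eq_fintype_card, hF]
  have hq2 := LieClassical.HermBasic.two_le hF
  obtain ⟨p, hpr, hp, hpq⟩ := prime_pow hF
  have : Fact p.Prime := ⟨hpr⟩
  obtain ⟨φ, ψ, t, t', m, a1, a2, b1, b2, hm, hφ0⟩ := exPair hF hq (p := p) hk hl hn
  subst hn
  obtain ⟨e, he⟩ := dvd_dg hq (p := p) (k := k) (n' := 1 + (1 + l)) (by omega)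
  set D := dg (hermF F hq (k + (k + (1 + (1 + l))))) k with hD
  -- a third index
  obtain ⟨j, hj1, hj2, hj3, hj4⟩ : ∃ j, 1 + (1 + l) < j ∧ j ≤ k + (k + (1 + (1 + l))) ∧ j ≠ i ∧ j ≠ 2 * k := by
    by_cases c1 : (1 + (1 + l) + 1 ≠ i ∧ 1 + (1 + l) + 1 ≠ 2 * k)
    · exact ⟨_, by omega, by omega, c1.1, c1.2⟩
    · by_cases c2 : (1 + (1 + l) + 2 ≠ i ∧ 1 + (1 + l) + 2 ≠ 2 * k)
      · exact ⟨_, by omega, by omega, c2.1, c2.2⟩
      · exact ⟨1 + (1 + l) + 3, by omega, by omega, by omega, by omega⟩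
  have hsub : ({i - 1, j - 1, 2 * k - 1} : Finset ℕ) ⊆ Finset.Ico (1 + (1 + l)) (k + (k + (1 + (1 + l)))) := by
    intro x hx
    rw [Finset.mem_insert, Finset.mem_insert, Finset.mem_singleton] at hx
    rw [Finset.mem_Ico]
    (clear * - hk hl h1 h2 hj1 hj2 hx; omega)
  have h4 := (Finset.prod_dvd_prod_of_subset _ _ (fun i => uu q (i + 1)) hsub).trans he
  rw [Finset.prod_insert (by rw [Finset.mem_insert, Finset.mem_singleton]; (clear * - hk h3 hj1 hj3; omega)),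
    Finset.prod_insert (by rw [Finset.mem_singleton]; omega), Finset.prod_singleton,
    show i - 1 + 1 = i by omega, show j - 1 + 1 = j by omega, show 2 * k - 1 + 1 = 2 * k by omega] at h4
  have e2k : uu q (2 * k) = q ^ (2 * k) - 1 := by
    unfold uu; rw [if_pos (even_two_mul k)]
  rw [e2k] at h4
  have hpos : 0 < q ^ (2 * k) - 1 := by
    have : 1 < q ^ (2 * k) := Nat.one_lt_pow (by omega) (by omega)
    omega
  have h5 : r * (q + 1) ∣ p ^ e * D := by
    apply Nat.dvd_of_mul_dvd_mul_right hpos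
    rw [mul_assoc (p ^ e)]
    refine dvd_trans ?_ h4
    rw [← mul_assoc]
    exact Nat.mul_dvd_mul_right (Nat.mul_dvd_mul hri (succ_dvd_uu (by omega) j)) _
  have hrp : r ≠ p := fun h => hrq ((hpq r hr).2 h)
  have hcop := (Nat.coprime_primes hr hpr).2 hrp
  have ht0 : 0 < t := Nat.pos_of_dvd_of_pos a2 (by omega)
  have ht0' : 0 < t' := Nat.pos_of_dvd_of_pos b2 (by omega)
  have h6 : r ∣ charDegree (φ : PSU (k + (k + (1 + (1 + l)))) F q → ℂ) :=
    dvd_of_index (A := r * (q + 1)) (by rw [a1]; exact h5) a2 ht0 dvd_rfl hcop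
  have h7 : r ∣ charDegree (ψ : PSU (k + (k + (1 + (1 + l)))) F q → ℂ) :=
    dvd_of_index (A := r * (q + 1)) (a := e) (p := p) (by
      rw [b1, ← mul_assoc]
      exact h5.mul_right _) b2 ht0' dvd_rfl hcop
  refine two_of_degree_ne φ ψ h6 h7 fun h => ?_
  rw [← h, ← a1, mul_assoc] at b1
  have h8 : t' = t * p ^ m := Nat.eq_of_mul_eq_mul_left hφ0 b1
  have h9 : p ∣ q + 1 := by
    refine (dvd_trans ?_ b2)
    rw [h8]
    exact (dvd_pow_self p (by omega)).mul_left _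
  have h10 : p ∣ q := (hpq p hpr).2 rfl
  exact hpr.one_lt.ne' (Nat.dvd_one.1 ((Nat.dvd_add_right h10).1 h9))

/-- a divisor of some `uu i` -/
theorem exists_index (hF : Fintype.card F = q ^ 2) (hn : 4 ≤ n) {r : ℕ} (hr : r.Prime) (hrq : ¬ r ∣ q)
    (h : r ∣ Nat.card (PSU n F q)) : ∃ i, 1 ≤ i ∧ i ≤ n ∧ r ∣ uu q i := by
  rcases cover hF hn hr h with h1 | ⟨i, hi, h1⟩ | ⟨-, h1⟩
  · exact absurd h1 hrq
  · exact ⟨i, (idx_le hn hi).1, (idx_le hn hi).2, h1⟩
  · refine ⟨exn n, ?_, ?_, h1⟩ <;> unfold exn <;> split_ifs <;> omega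

/-- **`n ≥ 6`** -/
theorem two_six (hF : Fintype.card F = q ^ 2) (hn : 6 ≤ n) {r : ℕ} (hr : r.Prime) (hrq : ¬ r ∣ q)
    (h : r ∣ Nat.card (PSU n F q)) : Two r (PSU n F q) := by
  have hq2 := LieClassical.HermBasic.two_le hF
  obtain ⟨i, hi1, hi2, hri⟩ := exists_index hF (by omega) hr hrq h
  rcases Nat.even_or_odd' n with ⟨m, hm | hm⟩
  · -- `n = 2 m`, `k = m - 1`
    have hnk : n = (m - 1) + ((m - 1) + (1 + (1 + 0))) := by omega
    have pair : ∀ j, 2 < j → j ≤ n → j ≠ n - 2 → r ∣ uu q j → Two r (PSU n F q) := fun j h1 h2 h3 h4 =>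
      two_pair hF (by omega) (by norm_num) hnk hr hrq (by omega) h2 (by omega) h4
    by_cases h3 : r ∣ q ^ 2 - 1
    · refine pair n (by omega) le_rfl (by omega) ?_
      rw [← uu_two] at h3
      rw [hm]
      exact h3.trans (uu_dvd_mul (by omega) 2 m)
    have h3' : ¬ r ∣ q + 1 := fun h => h3 (by
      rw [Cfsg.Agent.H113.PSU.Facts.sq_sub (by omega)]
      exact h.mul_left _)
    have hi3 : 2 < i := by
      by_contra hcon
      rcases (show i = 1 ∨ i = 2 by omega) with rfl | rfl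
      · rw [uu_one] at hri; exact h3' hri
      · rw [uu_two] at hri; exact h3 hri
    by_cases h4 : i = n - 2
    · subst h4
      obtain ⟨ψ, hψ⟩ := exG (n := n) hF (by omega)
      exact two_rank3 hF (by omega) hr hrq ⟨n - 2, mem_idx (by omega) (by omega) (by omega) (by
        unfold exn; rw [if_pos ⟨m, by omega⟩]; omega) (fun h => by omega), hri⟩ ψ hψ (Or.inr ⟨rfl, rfl⟩)
        (dvd_rank3 hr hψ h3 h3' (Or.inr hri))
    · exact pair i hi3 hi2 h4 hri
  · -- `n = 2 m + 1`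
    have hnk : n = (m - 1) + ((m - 1) + (1 + (1 + 1))) := by omega
    have hev : ¬ Even n := Nat.not_even_iff_odd.2 ⟨m, hm⟩
    have pair : ∀ j, 3 < j → j ≤ n → j ≠ n - 3 → r ∣ uu q j → Two r (PSU n F q) := fun j h1 h2 h3 h4 =>
      two_pair hF (by omega) le_rfl hnk hr hrq (by omega) h2 (by (clear * - hnk h3; omega)) h4
    by_cases h3 : r ∣ q ^ 2 - 1
    · refine pair (n - 1) (by omega) (by omega) (by omega) ?_
      rw [← uu_two] at h3
      have : n - 1 = 2 * m := by omega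
      rw [this]
      exact h3.trans (uu_dvd_mul (by omega) 2 m)
    have h3' : ¬ r ∣ q + 1 := fun h => h3 (by
      rw [Cfsg.Agent.H113.PSU.Facts.sq_sub (by omega)]
      exact h.mul_left _)
    have hi3 : 2 < i := by
      by_contra hcon
      rcases (show i = 1 ∨ i = 2 by omega) with rfl | rfl
      · rw [uu_one] at hri; exact h3' hri
      · rw [uu_two] at hri; exact h3 hri
    by_cases h5 : i = 3
    · subst h5
      by_cases h9 : n = 9
      · exact pair 9 (by norm_num) (by omega) (by omega) (hri.trans (uu_dvd_mul (by omega) 3 3))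
      · exact pair 6 (by norm_num) (by omega) (by omega) (hri.trans (uu_dvd_mul (by omega) 3 2))
    by_cases h4 : i = n - 3
    · subst h4
      obtain ⟨ψ, hψ⟩ := exF (n := n) hF (by omega)
      exact two_rank3 hF (by omega) hr hrq ⟨n - 3, mem_idx (by omega) (by omega) (by omega) (by
        unfold exn; rw [if_neg hev]; omega) (fun h => by omega), hri⟩ ψ hψ (Or.inl ⟨rfl, rfl⟩)
        (dvd_rank3 hr hψ h3 h3' (Or.inr hri))
    · exact pair i (by omega) hi2 h4 hri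

end

section small

variable {q : ℕ}

theorem uu_three : uu q 3 = q ^ 3 + 1 := by unfold uu; rw [if_neg (by decide)]

theorem uu_five : uu q 5 = q ^ 5 + 1 := by unfold uu; rw [if_neg (by decide)]

theorem uu_four (hq : 1 ≤ q) : uu q 4 = (q ^ 2 - 1) * (q ^ 2 + 1) := by
  unfold uu; rw [if_pos (by decide)]
  obtain ⟨t, ht⟩ : ∃ t, q ^ 2 = t + 1 := ⟨q ^ 2 - 1, by have := Nat.pow_pos (n := 2) (show 0 < q by omega); omega⟩
  have : q ^ 4 = (q ^ 2) ^ 2 := by ring
  rw [this, ht, Nat.add_sub_cancel]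
  have : (t + 1) ^ 2 = t * (t + 1 + 1) + 1 := by ring
  rw [this, Nat.add_sub_cancel]

theorem AA_four : AA q 4 = (q + 1) * (q ^ 2 - 1) * (q ^ 3 + 1) := by
  unfold AA
  rw [if_pos (by decide)]
  simp only [show 4 - 1 = 3 from rfl, Finset.prod_range_succ, Finset.prod_range_zero, one_mul, zero_add,
    show 1 + 1 = 2 from rfl, show 2 + 1 = 3 from rfl, uu_one, uu_two, uu_three]

theorem AA_five : AA q 5 = (q ^ 2 - 1) * (q ^ 3 + 1) * (q ^ 5 + 1) := by
  unfold AA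
  rw [if_neg (by decide)]
  simp only [show 5 - 2 = 3 from rfl, show Finset.Ico 1 3 = {1, 2} from by decide, uu_five]
  rw [Finset.prod_insert (by decide), Finset.prod_singleton]
  simp only [show 1 + 1 = 2 from rfl, show 2 + 1 = 3 from rfl, uu_two, uu_three]

theorem four_le_sq (hq : 2 ≤ q) : 4 ≤ q ^ 2 := Nat.pow_le_pow_left hq 2

/-- cancelling the powers of `p` -/
theorem AA_dvd (hq : 2 ≤ q) {n : ℕ} (hn : 4 ≤ n) {p a d t t' N : ℕ} (hp : p ∣ q) (hA : AA q n ∣ p ^ a * (d * t))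
    (ht : t ∣ q + 1) (hd : d * t' = N) : AA q n ∣ N * (q + 1) := by
  have h1 : AA q n ∣ p ^ a * (N * (q + 1)) := by
    refine hA.trans (Nat.mul_dvd_mul_left _ ?_)
    rw [← hd]
    exact Nat.mul_dvd_mul (Dvd.intro _ rfl) ht
  exact (Nat.Coprime.pow_left a (Nat.Coprime.coprime_dvd_left hp (cop_AA (by omega) hn))).symm.dvd_of_dvd_mul_left h1

theorem ne_four (hq : 2 ≤ q) {p a d t t' : ℕ} (hp : p ∣ q) (hA : AA q 4 ∣ p ^ a * (d * t))
    (ht : t ∣ q + 1) (hd : d * t' = (q ^ 2 + 1) * (q ^ 3 + 1)) : False := by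
  have h1 := AA_dvd hq le_rfl hp hA ht hd
  rw [AA_four] at h1
  have h4 := four_le_sq hq
  have h2 : (q ^ 2 - 1) ∣ q ^ 2 + 1 := by
    apply Nat.dvd_of_mul_dvd_mul_right (k := (q + 1) * (q ^ 3 + 1)) (by positivity)
    refine (dvd_of_eq ?_).trans (h1.trans (dvd_of_eq ?_)) <;> ring
  have h3 := Nat.dvd_sub h2 (dvd_refl (q ^ 2 - 1))
  have h5 : q ^ 2 + 1 - (q ^ 2 - 1) = 2 := by omega
  rw [h5] at h3
  have := Nat.le_of_dvd (by norm_num) h3
  omega

theorem ne_five (hq : 2 ≤ q) {p a d t t' : ℕ} (hp : p ∣ q) (hA : AA q 5 ∣ p ^ a * (d * t))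
    (ht : t ∣ q + 1) (hd : d * t' = (q ^ 2 + 1) * (q ^ 5 + 1)) : False := by
  have h1 := AA_dvd hq (n := 5) (by norm_num) hp hA ht hd
  rw [AA_five] at h1
  have h4 := four_le_sq hq
  have h2 : (q ^ 2 - 1) * (q ^ 3 + 1) ∣ (q ^ 2 + 1) * (q + 1) := by
    apply Nat.dvd_of_mul_dvd_mul_right (k := q ^ 5 + 1) (by positivity)
    refine (dvd_of_eq ?_).trans (h1.trans (dvd_of_eq ?_)) <;> ring
  have h3 := Nat.le_of_dvd (by positivity) h2
  obtain ⟨x, hx⟩ : ∃ x, q ^ 2 = x + 4 := ⟨q ^ 2 - 4, by omega⟩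
  have e3 : q ^ 3 = q * q ^ 2 := by ring
  rw [e3, hx] at h3
  have e4 : x + 4 - 1 = x + 3 := by omega
  rw [e4] at h3
  clear hx e4 e3 h2 h4 h1 hA ht hd hp
  obtain ⟨k, rfl⟩ : ∃ k, q = k + 2 := ⟨q - 2, by omega⟩
  have h5 : (x + 4 + 1) * (k + 2 + 1) < (x + 3) * ((k + 2) * (x + 4) + 1) := by
    have : (x + 3) * ((k + 2) * (x + 4) + 1) =
        (x + 4 + 1) * (k + 2 + 1) + (k * (x * x) + 6 * (k * x) + 7 * k + 2 * (x * x) + 12 * x + 12) := by ring
    rw [this]; omega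
  omega

end small

section

variable {F : Type u} [Field F] [Fintype F] {q : ℕ}

/-- `f`, `n = 4` -/
theorem f4 (hF : Fintype.card F = q ^ 2) : ∃ φ : IrrCharacter (PSU 4 F q),
    (q ^ 2 - 1) * (q + 1) * charDegree (φ : PSU 4 F q → ℂ) = q ^ 2 * uu q 4 * uu q 1 ∧
    charDegree (φ : PSU 4 F q → ℂ) = q ^ 2 * (q ^ 2 + 1) := by
  have hq2 := LieClassical.HermBasic.two_le hF
  obtain ⟨φ, hφ⟩ := exF (n := 4) hF le_rfl
  refine ⟨φ, hφ, ?_⟩
  have h4 := four_le_sq hq2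
  rw [uu_four (by omega), show 4 - 3 = 1 from rfl, uu_one] at hφ
  apply Nat.eq_of_mul_eq_mul_left (show 0 < (q ^ 2 - 1) * (q + 1) from Nat.mul_pos (by omega) (by omega))
  rw [hφ]; ring

/-- `g`, `n = 4` -/
theorem g4 (hF : Fintype.card F = q ^ 2) : ∃ (φ : IrrCharacter (PSU 4 F q)) (w : ℕ),
    (q ^ 2 - 1) * (q + 1) * charDegree (φ : PSU 4 F q → ℂ) = q ^ 3 * uu q 3 * uu q 2 ∧
    charDegree (φ : PSU 4 F q → ℂ) = q ^ 3 * w ∧ w + q = q ^ 2 + 1 := by
  have hq2 := LieClassical.HermBasic.two_le hF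
  obtain ⟨φ, hφ⟩ := exG (n := 4) hF le_rfl
  have h4 := four_le_sq hq2
  refine ⟨φ, q ^ 2 + 1 - q, hφ, ?_, by linarith only [Nat.sub_add_cancel (show q ≤ q ^ 2 + 1 by nlinarith)]⟩
  rw [show 4 - 1 = 3 from rfl, show 4 - 2 = 2 from rfl, uu_three, uu_two] at hφ
  apply Nat.eq_of_mul_eq_mul_left (show 0 < (q ^ 2 - 1) * (q + 1) from Nat.mul_pos (by omega) (by omega))
  rw [hφ]
  have h5 : (q ^ 2 + 1 - q) * (q + 1) = q ^ 3 + 1 := by
    obtain ⟨y, hy⟩ : ∃ y, q ^ 2 + 1 = y + q := ⟨q ^ 2 + 1 - q, by linarith only [Nat.sub_add_cancel (show q ≤ q ^ 2 + 1 by nlinarith)]⟩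
    have h6 : q ^ 2 + 1 - q = y := by omega
    rw [h6]
    have h7 : (q ^ 2 + 1) * (q + 1) = (y + q) * (q + 1) := by rw [hy]
    linarith only [h7]
  rw [← h5]; ring

/-- `f`, `n = 5` -/
theorem f5 (hF : Fintype.card F = q ^ 2) : ∃ (φ : IrrCharacter (PSU 5 F q)) (w : ℕ),
    (q ^ 2 - 1) * (q + 1) * charDegree (φ : PSU 5 F q → ℂ) = q ^ 2 * uu q 5 * uu q 2 ∧
    charDegree (φ : PSU 5 F q → ℂ) = q ^ 2 * w ∧ (q + 1) * w = q ^ 5 + 1 := by
  have hq2 := LieClassical.HermBasic.two_le hF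
  obtain ⟨φ, hφ⟩ := exF (n := 5) hF (by norm_num)
  have h4 := four_le_sq hq2
  obtain ⟨w, hw⟩ := succ_dvd_uu (q := q) (by omega) 5
  refine ⟨φ, w, hφ, ?_, by rw [← hw, uu_five]⟩
  rw [show 5 - 3 = 2 from rfl, hw, uu_two] at hφ
  apply Nat.eq_of_mul_eq_mul_left (show 0 < (q ^ 2 - 1) * (q + 1) from Nat.mul_pos (by omega) (by omega))
  rw [hφ]; ring

/-- `g`, `n = 5` -/
theorem g5 (hF : Fintype.card F = q ^ 2) : ∃ (φ : IrrCharacter (PSU 5 F q)) (w : ℕ),
    (q ^ 2 - 1) * (q + 1) * charDegree (φ : PSU 5 F q → ℂ) = q ^ 3 * uu q 4 * uu q 3 ∧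
    charDegree (φ : PSU 5 F q → ℂ) = q ^ 3 * ((q ^ 2 + 1) * w) ∧ w + q = q ^ 2 + 1 := by
  have hq2 := LieClassical.HermBasic.two_le hF
  obtain ⟨φ, hφ⟩ := exG (n := 5) hF (by norm_num)
  have h4 := four_le_sq hq2
  refine ⟨φ, q ^ 2 + 1 - q, hφ, ?_, by linarith only [Nat.sub_add_cancel (show q ≤ q ^ 2 + 1 by nlinarith)]⟩
  rw [show 5 - 1 = 4 from rfl, show 5 - 2 = 3 from rfl, uu_three, uu_four (by omega)] at hφ
  apply Nat.eq_of_mul_eq_mul_left (show 0 < (q ^ 2 - 1) * (q + 1) from Nat.mul_pos (by omega) (by omega))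
  rw [hφ]
  have h5 : (q ^ 2 + 1 - q) * (q + 1) = q ^ 3 + 1 := by
    obtain ⟨y, hy⟩ : ∃ y, q ^ 2 + 1 = y + q := ⟨q ^ 2 + 1 - q, by linarith only [Nat.sub_add_cancel (show q ≤ q ^ 2 + 1 by nlinarith)]⟩
    have h6 : q ^ 2 + 1 - q = y := by omega
    rw [h6]
    have h7 : (q ^ 2 + 1) * (q + 1) = (y + q) * (q + 1) := by rw [hy]
    linarith only [h7]
  rw [← h5]; ring

theorem three_dvd_w {w : ℕ} (hw : w + q = q ^ 2 + 1) (h : 3 ∣ q + 1) : 3 ∣ w := by
  obtain ⟨c, hc⟩ := h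
  have h1 : (w : ℤ) = (q + 1) ^ 2 - 3 * (q + 1) + 3 := by
    have : (w : ℤ) + q = q ^ 2 + 1 := by exact_mod_cast hw
    linear_combination this
  have h2 : (q : ℤ) + 1 = 3 * c := by exact_mod_cast hc
  have h3 : (3 : ℤ) ∣ w := ⟨3 * c ^ 2 - 3 * c + 1, by rw [h1, h2]; ring⟩
  exact_mod_cast h3

theorem five_dvd_w {w : ℕ} (hw : (q + 1) * w = q ^ 5 + 1) (h : 5 ∣ q + 1) : 5 ∣ w := by
  obtain ⟨c, hc⟩ := h
  have h2 : (q : ℤ) = 5 * c - 1 := by
    have : (q : ℤ) + 1 = 5 * c := by exact_mod_cast hc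
    linarith only [hc]
  have h0 : (0 : ℤ) < (q : ℤ) + 1 := by positivity
  have h1 : (w : ℤ) = q ^ 4 - q ^ 3 + q ^ 2 - q + 1 := by
    have h3 : ((q : ℤ) + 1) * w = q ^ 5 + 1 := by exact_mod_cast hw
    have h4 : ((q : ℤ) + 1) * w = ((q : ℤ) + 1) * (q ^ 4 - q ^ 3 + q ^ 2 - q + 1) := by rw [h3]; ring
    exact mul_left_cancel₀ h0.ne' h4
  have h3 : (5 : ℤ) ∣ w := by
    rw [h1, h2]
    exact ⟨125 * c ^ 4 - 125 * c ^ 3 + 50 * c ^ 2 - 10 * c + 1, by ring⟩
  exact_mod_cast h3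

/-- `D_1`, `q ≥ 4` -/
theorem d1 (hF : Fintype.card F = q ^ 2) (hq : Nat.card F = q ^ 2) (h4 : 4 ≤ q) {n l : ℕ} (hl : 1 ≤ l)
    (hn : n = 1 + (1 + l)) : ∃ (φ : IrrCharacter (PSU n F q)) (t : ℕ),
      charDegree (φ : PSU n F q → ℂ) * t = Nat.card ((hermF F hq n).Om 1) ∧ t ∣ q + 1 ∧
      ∀ r : ℕ, r.Prime → r ∣ t → r ∣ n := by
  obtain ⟨θ, h1, h2⟩ := exists_theta hq h4 (1 : mu F q →* ℂˣ)
  obtain ⟨φ, t, a1, -, a3, a4⟩ := exOne hF hq hl hn (θ := θ) h2 (fun a ha _ => by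
    have := h1 a ha
    rwa [MonoidHom.one_apply, mul_one] at this)
  exact ⟨φ, t, a1, a3, a4⟩

theorem mem_idx_small {n : ℕ} (h : n = 4 ∨ n = 5) : 2 ∈ idx n ∧ 3 ∈ idx n ∧ (n = 5 → 5 ∈ idx n) := by
  rcases h with rfl | rfl
  · decide
  · decide

end

/-- **`n = 4`** -/
theorem two_four {F : Type} [Field F] [Fintype F] {q : ℕ} (hF : Fintype.card F = q ^ 2) {r : ℕ} (hr : r.Prime)
    (hrq : ¬ r ∣ q) (h : r ∣ Nat.card (PSU 4 F q)) : Two r (PSU 4 F q) := by
  have hq : Nat.card F = q ^ 2 := by rw [Nat.card_eq_fintype_card, hF]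
  have hq2 := LieClassical.HermBasic.two_le hF
  have h4 := four_le_sq hq2
  obtain ⟨p, hpr, hp, hpq⟩ := prime_pow hF
  have : Fact p.Prime := ⟨hpr⟩
  have hpq' : p ∣ q := (hpq p hpr).2 rfl
  obtain ⟨hi2, hi3, -⟩ := mem_idx_small (Or.inl rfl : (4 : ℕ) = 4 ∨ 4 = 5)
  have hsq := Cfsg.Agent.H113.PSU.Facts.sq_sub (q := q) (by omega)
  by_cases hr2 : r = 2
  · subst hr2
    obtain ⟨φ, hφ, hφ'⟩ := f4 hF
    have hodd : q % 2 = 1 := by omega
    refine two_rank3 hF le_rfl hr hrq ⟨2, hi2, ?_⟩ φ hφ (Or.inl ⟨rfl, rfl⟩) ?_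
    · rw [uu_two, hsq]
      exact Dvd.dvd.mul_left (by omega) _
    · rw [hφ']
      apply Dvd.dvd.mul_left
      obtain ⟨c, hc⟩ : ∃ c, q = 2 * c + 1 := ⟨q / 2, by omega⟩
      exact ⟨2 * c ^ 2 + 2 * c + 1, by rw [hc]; ring⟩
  have hr3 : 3 ≤ r := by
    have := hr.two_le
    omega
  by_cases h1 : r ∣ q + 1
  · have hA : ∃ i ∈ idx 4, r ∣ uu q i := ⟨2, hi2, by rw [uu_two, hsq]; exact h1.mul_left _⟩
    by_cases hr3' : r = 3
    · subst hr3'
      obtain ⟨φ, w, hφ, hφ', hw⟩ := g4 hF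
      exact two_rank3 hF le_rfl hr hrq hA φ hφ (Or.inr ⟨rfl, rfl⟩) (by rw [hφ']; exact (three_dvd_w hw h1).mul_left _)
    · have hr5 : 5 ≤ r := by
        by_contra hcon
        have : r = 4 := by omega
        subst this
        exact absurd hr (by norm_num)
      have hq4 : 4 ≤ q := by
        have := Nat.le_of_dvd (by omega) h1
        omega
      obtain ⟨φ, t, a, a1, a2, a3⟩ := exA3 hF hq (p := p) (n := 4) le_rfl
      obtain ⟨ψ, t', b1, b2, b3⟩ := d1 (n := 4) (l := 2) hF hq hq4 (by norm_num) rfl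
      rw [card_Om1_four hF hq] at b1
      have ht0 : 0 < t := Nat.pos_of_dvd_of_pos a2 (by omega)
      obtain ⟨i, hi, hri⟩ := hA
      have hrp : r ≠ p := fun h => hrq ((hpq r hr).2 h)
      have h5 : r ∣ charDegree (φ : PSU 4 F q → ℂ) :=
        dvd_of_index a3 a2 ht0 (prime_mul_dvd_AA (by omega) le_rfl hi hri) ((Nat.coprime_primes hr hpr).2 hrp)
      have h6 : r ∣ charDegree (ψ : PSU 4 F q → ℂ) := by
        have h7 : r ∣ charDegree (ψ : PSU 4 F q → ℂ) * t' := by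
          rw [b1]
          apply Dvd.dvd.mul_left
          rw [← uu_three]
          exact h1.trans (succ_dvd_uu (by omega) 3)
        refine (hr.dvd_mul.1 h7).resolve_right fun h8 => ?_
        have h9 := Nat.le_of_dvd (by norm_num) (b3 r hr h8)
        omega
      refine two_of_degree_ne φ ψ h5 h6 fun h7 => ?_
      rw [h7] at a3
      exact ne_four hq2 hpq' a3 a2 b1
  by_cases h0 : r ∣ q - 1
  · have hq4 : 4 ≤ q := by
      have := Nat.le_of_dvd (by omega) h0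
      omega
    obtain ⟨φ, t, a, a1, a2, a3⟩ := exA3 hF hq (p := p) (n := 4) le_rfl
    obtain ⟨ψ, t', d, b1, -, b2, b3, b4⟩ := exCusp (n := 4) (l := 0) hF hq hq4 (by norm_num) rfl
    have ht0 : 0 < t := Nat.pos_of_dvd_of_pos a2 (by omega)
    have hrp : r ≠ p := fun h => hrq ((hpq r hr).2 h)
    have h5 : r ∣ charDegree (φ : PSU 4 F q → ℂ) :=
      dvd_of_index a3 a2 ht0 (prime_mul_dvd_AA (by omega) le_rfl hi2 (by rw [uu_two, hsq]; exact h0.mul_right _))
        ((Nat.coprime_primes hr hpr).2 hrp)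
    have h6 : r ∣ charDegree (ψ : PSU 4 F q → ℂ) := by
      have h7 : r ∣ charDegree (ψ : PSU 4 F q → ℂ) * t' := by
        rw [b1]
        exact (b4 r hr hr2 h0).mul_left _
      exact (hr.dvd_mul.1 h7).resolve_right fun h8 => h1 (h8.trans b2)
    refine two_of_degree_ne φ ψ h5 h6 fun h7 => ?_
    obtain ⟨s, hs, hs1, hs2⟩ := exists_odd hq2
    obtain ⟨n1, n2, n3, n4, -⟩ := not_dvd_of hq2 hs hs1 hs2
    obtain ⟨x, hx⟩ := card_Om2_four hF hq
    rw [card_Om1_four hF hq] at b1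
    have h8 : s ∣ charDegree (ψ : PSU 4 F q → ℂ) * t' := by
      rw [b1]
      exact (hs1.mul_right _).mul_right _
    have h9 := (hs.dvd_mul.1 h8).resolve_right fun h10 => n3 (h10.trans b2)
    rw [← h7] at h9
    have h10 : s ∣ dg (hermF F hq 4) (4 / 2) := by rw [← a1]; exact h9.mul_right _
    unfold dg at h10
    rw [show 4 / 2 = 2 from rfl, hq] at h10
    rcases hs.dvd_mul.1 h10 with h11 | h11
    · rcases hs.dvd_mul.1 (h11.trans hx) with h12 | h12
      · exact n1 (hs.dvd_of_dvd_pow h12)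
      · exact (hs.dvd_mul.1 h12).elim n3 n4
    · exact n2 (by simpa only [_root_.Nat.Ico_succ_singleton, _root_.Finset.prod_singleton, _root_.pow_one] using h11)
  -- `r ∤ q² - 1`
  have h2' : ¬ r ∣ q ^ 2 - 1 := by
    rw [hsq, hr.dvd_mul]
    rintro (h | h)
    · exact h0 h
    · exact h1 h
  obtain ⟨i, hi1, hi2', hri⟩ := exists_index hF le_rfl hr hrq h
  rcases (show i = 1 ∨ i = 2 ∨ i = 3 ∨ i = 4 by omega) with rfl | rfl | rfl | rfl
  · rw [uu_one] at hri; exact absurd hri h1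
  · rw [uu_two] at hri; exact absurd hri h2'
  · obtain ⟨φ, w, hφ, -, -⟩ := g4 hF
    exact two_rank3 hF le_rfl hr hrq ⟨3, hi3, hri⟩ φ hφ (Or.inr ⟨rfl, rfl⟩) (dvd_rank3 hr hφ h2' h1 (Or.inl hri))
  · rw [uu_four (by omega)] at hri
    have h5 := (hr.dvd_mul.1 hri).resolve_left h2'
    by_cases hq4 : 4 ≤ q
    · obtain ⟨φ, hφ, hφ'⟩ := f4 hF
      obtain ⟨ψ, t', b1, b2, b3⟩ := d1 (n := 4) (l := 2) hF hq hq4 (by norm_num) rfl
      rw [card_Om1_four hF hq] at b1
      have h6 : r ∣ charDegree (ψ : PSU 4 F q → ℂ) := by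
        have h7 : r ∣ charDegree (ψ : PSU 4 F q → ℂ) * t' := by
          rw [b1]
          exact h5.mul_right _
        exact (hr.dvd_mul.1 h7).resolve_right fun h8 => h1 (h8.trans b2)
      refine two_of_degree_ne φ ψ (by rw [hφ']; exact h5.mul_left _) h6 fun h7 => ?_
      have h8 : p ∣ (q ^ 2 + 1) * (q ^ 3 + 1) := by
        rw [← b1, ← h7, hφ']
        exact ((hpq'.trans (dvd_pow_self q two_ne_zero)).mul_right _).mul_right _
      rcases hpr.dvd_mul.1 h8 with h9 | h9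
      · exact hpr.one_lt.ne' (Nat.dvd_one.1 ((Nat.dvd_add_right (hpq'.trans (dvd_pow_self q two_ne_zero))).1 h9))
      · exact hpr.one_lt.ne' (Nat.dvd_one.1 ((Nat.dvd_add_right (hpq'.trans (dvd_pow_self q three_ne_zero))).1 h9))
    · rcases (show q = 2 ∨ q = 3 by omega) with rfl | rfl
      · have h6 : r = 5 := (Nat.prime_dvd_prime_iff_eq hr (by norm_num : Nat.Prime 5)).1 h5
        subst h6
        exact PsuSmall.two_u42 hF
      · have h6 : r ∣ 2 * 5 := h5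
        have h7 := (hr.dvd_mul.1 h6).resolve_left fun h8 => hr2 ((Nat.prime_dvd_prime_iff_eq hr Nat.prime_two).1 h8)
        have h8 : r = 5 := (Nat.prime_dvd_prime_iff_eq hr (by norm_num : Nat.Prime 5)).1 h7
        subst h8
        exact PsuSmall.two_u43 hF

/-- **`n = 5`** -/
theorem two_five {F : Type} [Field F] [Fintype F] {q : ℕ} (hF : Fintype.card F = q ^ 2) {r : ℕ} (hr : r.Prime)
    (hrq : ¬ r ∣ q) (h : r ∣ Nat.card (PSU 5 F q)) : Two r (PSU 5 F q) := by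
  have hq : Nat.card F = q ^ 2 := by rw [Nat.card_eq_fintype_card, hF]
  have hq2 := LieClassical.HermBasic.two_le hF
  have h4 := four_le_sq hq2
  obtain ⟨p, hpr, hp, hpq⟩ := prime_pow hF
  have : Fact p.Prime := ⟨hpr⟩
  have hpq' : p ∣ q := (hpq p hpr).2 rfl
  obtain ⟨hi2, hi3, hi5⟩ := mem_idx_small (Or.inr rfl : (5 : ℕ) = 4 ∨ 5 = 5)
  have hsq := Cfsg.Agent.H113.PSU.Facts.sq_sub (q := q) (by omega)
  by_cases hr2 : r = 2
  · subst hr2
    obtain ⟨φ, w, hφ, hφ', hw⟩ := g5 hF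
    have hodd : q % 2 = 1 := by omega
    refine two_rank3 hF (by norm_num) hr hrq ⟨2, hi2, ?_⟩ φ hφ (Or.inr ⟨rfl, rfl⟩) ?_
    · rw [uu_two, hsq]
      exact Dvd.dvd.mul_left (by omega) _
    · rw [hφ']
      apply Dvd.dvd.mul_left
      apply Dvd.dvd.mul_right
      obtain ⟨c, hc⟩ : ∃ c, q = 2 * c + 1 := ⟨q / 2, by omega⟩
      exact ⟨2 * c ^ 2 + 2 * c + 1, by rw [hc]; ring⟩
  have hr3 : 3 ≤ r := by
    have := hr.two_le
    omega
  by_cases h1 : r ∣ q + 1
  · have hA : ∃ i ∈ idx 5, r ∣ uu q i := ⟨2, hi2, by rw [uu_two, hsq]; exact h1.mul_left _⟩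
    by_cases hr3' : r = 3
    · subst hr3'
      obtain ⟨φ, w, hφ, hφ', hw⟩ := g5 hF
      exact two_rank3 hF (by norm_num) hr hrq hA φ hφ (Or.inr ⟨rfl, rfl⟩)
        (by rw [hφ']; exact ((three_dvd_w hw h1).mul_left _).mul_left _)
    by_cases hr5' : r = 5
    · subst hr5'
      obtain ⟨φ, w, hφ, hφ', hw⟩ := f5 hF
      exact two_rank3 hF (by norm_num) hr hrq hA φ hφ (Or.inl ⟨rfl, rfl⟩) (by rw [hφ']; exact (five_dvd_w hw h1).mul_left _)
    · have hr6 : 6 ≤ r := by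
        by_contra hcon
        have : r = 4 := by omega
        subst this
        exact absurd hr (by norm_num)
      have hq4 : 4 ≤ q := by
        have := Nat.le_of_dvd (by omega) h1
        omega
      obtain ⟨φ, t, a, a1, a2, a3⟩ := exA3 hF hq (p := p) (n := 5) (by norm_num)
      obtain ⟨ψ, t', b1, b2, b3⟩ := d1 (n := 5) (l := 3) hF hq hq4 (by norm_num) rfl
      rw [card_Om1_five hF hq] at b1
      have ht0 : 0 < t := Nat.pos_of_dvd_of_pos a2 (by omega)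
      obtain ⟨i, hi, hri⟩ := hA
      have hrp : r ≠ p := fun h => hrq ((hpq r hr).2 h)
      have h5 : r ∣ charDegree (φ : PSU 5 F q → ℂ) :=
        dvd_of_index a3 a2 ht0 (prime_mul_dvd_AA (by omega) (by norm_num) hi hri) ((Nat.coprime_primes hr hpr).2 hrp)
      have h6 : r ∣ charDegree (ψ : PSU 5 F q → ℂ) := by
        have h7 : r ∣ charDegree (ψ : PSU 5 F q → ℂ) * t' := by
          rw [b1]
          apply Dvd.dvd.mul_left
          rw [← uu_five]
          exact h1.trans (succ_dvd_uu (by omega) 5)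
        refine (hr.dvd_mul.1 h7).resolve_right fun h8 => ?_
        have h9 := Nat.le_of_dvd (by norm_num) (b3 r hr h8)
        omega
      refine two_of_degree_ne φ ψ h5 h6 fun h7 => ?_
      rw [h7] at a3
      exact ne_five hq2 hpq' a3 a2 b1
  by_cases h0 : r ∣ q - 1
  · have hq4 : 4 ≤ q := by
      have := Nat.le_of_dvd (by omega) h0
      omega
    obtain ⟨φ, t, a, a1, a2, a3⟩ := exA3 hF hq (p := p) (n := 5) (by norm_num)
    obtain ⟨ψ, t', d, b1, -, b2, b3, b4⟩ := exCusp (n := 5) (l := 1) hF hq hq4 (by norm_num) rfl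
    have ht0 : 0 < t := Nat.pos_of_dvd_of_pos a2 (by omega)
    have hrp : r ≠ p := fun h => hrq ((hpq r hr).2 h)
    have h5 : r ∣ charDegree (φ : PSU 5 F q → ℂ) :=
      dvd_of_index a3 a2 ht0 (prime_mul_dvd_AA (by omega) (by norm_num) hi2 (by rw [uu_two, hsq]; exact h0.mul_right _))
        ((Nat.coprime_primes hr hpr).2 hrp)
    have h6 : r ∣ charDegree (ψ : PSU 5 F q → ℂ) := by
      have h7 : r ∣ charDegree (ψ : PSU 5 F q → ℂ) * t' := by
        rw [b1]
        exact (b4 r hr hr2 h0).mul_left _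
      exact (hr.dvd_mul.1 h7).resolve_right fun h8 => h1 (h8.trans b2)
    refine two_of_degree_ne φ ψ h5 h6 fun h7 => ?_
    obtain ⟨s, hs, hs1, hs2⟩ := exists_odd hq2
    obtain ⟨n1, n2, n3, n4, n5⟩ := not_dvd_of hq2 hs hs1 hs2
    obtain ⟨x, hx⟩ := card_Om2_five hF hq
    rw [card_Om1_five hF hq] at b1
    have h8 : s ∣ charDegree (ψ : PSU 5 F q → ℂ) * t' := by
      rw [b1]
      exact (hs1.mul_right _).mul_right _
    have h9 := (hs.dvd_mul.1 h8).resolve_right fun h10 => n3 (h10.trans b2)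
    rw [← h7] at h9
    have h10 : s ∣ dg (hermF F hq 5) (5 / 2) := by rw [← a1]; exact h9.mul_right _
    unfold dg at h10
    rw [show 5 / 2 = 2 from rfl, hq] at h10
    rcases hs.dvd_mul.1 h10 with h11 | h11
    · rcases hs.dvd_mul.1 (h11.trans hx) with h12 | h12
      · exact n1 (hs.dvd_of_dvd_pow h12)
      · exact (hs.dvd_mul.1 h12).elim n4 n5
    · exact n2 (by simpa only [_root_.Nat.Ico_succ_singleton, _root_.Finset.prod_singleton, _root_.pow_one] using h11)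
  -- `r ∤ q² - 1`
  have h2' : ¬ r ∣ q ^ 2 - 1 := by
    rw [hsq, hr.dvd_mul]
    rintro (h | h)
    · exact h0 h
    · exact h1 h
  obtain ⟨i, hi1, hi2', hri⟩ := exists_index hF (by norm_num) hr hrq h
  rcases (show i = 1 ∨ i = 2 ∨ i = 3 ∨ i = 4 ∨ i = 5 by omega) with rfl | rfl | rfl | rfl | rfl
  · rw [uu_one] at hri; exact absurd hri h1
  · rw [uu_two] at hri; exact absurd hri h2'
  · obtain ⟨φ, w, hφ, -, -⟩ := g5 hF
    exact two_rank3 hF (by norm_num) hr hrq ⟨3, hi3, hri⟩ φ hφ (Or.inr ⟨rfl, rfl⟩) (dvd_rank3 hr hφ h2' h1 (Or.inr hri))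
  · rw [uu_four (by omega)] at hri
    have h5 := (hr.dvd_mul.1 hri).resolve_left h2'
    have hex : q ≠ 2 → ∃ (ψ : IrrCharacter (PSU 5 F q)) (t' : ℕ),
        charDegree (ψ : PSU 5 F q → ℂ) * t' = (q ^ 2 + 1) * (q ^ 5 + 1) ∧ t' ∣ q + 1 := by
      intro hq2'
      obtain ⟨θ, h7⟩ := exists_theta3 hq (by omega)
      by_cases hq4 : 4 ≤ q
      · obtain ⟨ψ, t', b1, b2, -⟩ := d1 (n := 5) (l := 3) hF hq hq4 (by norm_num) rfl
        exact ⟨ψ, t', by rw [b1, card_Om1_five hF hq], b2⟩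
      · have hq3 : q = 3 := by omega
        subst hq3
        obtain ⟨ψ, t', b1, -, b2, -⟩ := exOne (n := 5) (l := 3) hF hq (by norm_num) rfl (θ := θ) h7 (fun a ha ha5 => by
          rw [mem_mu] at ha
          have h9 : a = 1 := by
            have h10 : a ^ 5 = a ^ (3 + 1) * a := by rw [← pow_succ]
            rw [h10, ha, one_mul] at ha5
            exact ha5
          rw [h9, map_one])
        exact ⟨ψ, t', by rw [b1, card_Om1_five hF hq], b2⟩
    by_cases hq2' : q = 2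
    · subst hq2'
      have h6 : r = 5 := (Nat.prime_dvd_prime_iff_eq hr (by norm_num : Nat.Prime 5)).1 h5
      subst h6
      exact PsuSmall.two_u52 hF
    · obtain ⟨φ, w, hφ, hφ', hw⟩ := g5 hF
      obtain ⟨ψ, t', b1, b2⟩ := hex hq2'
      have h6 : r ∣ charDegree (ψ : PSU 5 F q → ℂ) := by
        have h7 : r ∣ charDegree (ψ : PSU 5 F q → ℂ) * t' := by
          rw [b1]
          exact h5.mul_right _
        exact (hr.dvd_mul.1 h7).resolve_right fun h8 => h1 (h8.trans b2)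
      refine two_of_degree_ne φ ψ (by rw [hφ']; exact (h5.mul_right _).mul_left _) h6 fun h7 => ?_
      have h8 : p ∣ (q ^ 2 + 1) * (q ^ 5 + 1) := by
        rw [← b1, ← h7, hφ']
        exact ((hpq'.trans (dvd_pow_self q three_ne_zero)).mul_right _).mul_right _
      rcases hpr.dvd_mul.1 h8 with h9 | h9
      · exact hpr.one_lt.ne' (Nat.dvd_one.1 ((Nat.dvd_add_right (hpq'.trans (dvd_pow_self q two_ne_zero))).1 h9))
      · exact hpr.one_lt.ne' (Nat.dvd_one.1 ((Nat.dvd_add_right (hpq'.trans (dvd_pow_self q (by norm_num : 5 ≠ 0)))).1 h9))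
  · obtain ⟨φ, w, hφ, -, -⟩ := f5 hF
    exact two_rank3 hF (by norm_num) hr hrq ⟨5, hi5 rfl, hri⟩ φ hφ (Or.inl ⟨rfl, rfl⟩) (dvd_rank3 hr hφ h2' h1 (Or.inl hri))

/-- **`PSU_n(q)`, `n ≥ 4`** -/
theorem two_psu_gen {F : Type} [Field F] [Fintype F] {q n : ℕ} (hF : Fintype.card F = q ^ 2) (hn : 4 ≤ n) {r : ℕ}
    (hr : r.Prime) (hrq : ¬ r ∣ q) (h : r ∣ Nat.card (PSU n F q)) : Two r (PSU n F q) := by
  by_cases h6 : 6 ≤ n
  · exact two_six hF h6 hr hrq h
  · rcases (show n = 4 ∨ n = 5 by omega) with rfl | rfl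
    · exact two_four hF hr hrq h
    · exact two_five hF hr hrq h

end Cfsg.Agent.H113.Two.PsuTwo
end
end
end
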